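/-
A non-degenerate reflexive sesquilinear form and the adjoint anti-automorphism of the matrix algebra.
-/
import Mathlib
import Cfsg.Agent.Aschbacher.Forms
import Cfsg.Agent.Aschbacher.Clifford

set_option autoImplicit false
set_option linter.style.haveILetI false

namespace Cfsg.Agent.Aschbacher

open Matrix

variable {ι : Type} [Fintype ι] [DecidableEq ι] {F : Type*} [Field F]

/-- A non-degenerate form with Gram matrix `T`, linear on the left and `τ`-semilinear on the right,
reflexive with sign `ε`. -/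
structure FormData (ι : Type) [Fintype ι] [DecidableEq ι] (F : Type*) [Field F] where
  τ : F ≃+* F
  T : Matrix ι ι F
  ε : F
  invol : ∀ a, τ (τ a) = a
  isUnit : IsUnit T.det
  refl : (T.map τ)ᵀ = ε • T

namespace FormData

variable (D : FormData ι F)

/-- The form of the data. -/
def form (u v : ι → F) : F := sesqForm D.τ.toRingHom D.T u v

lemma form_def (u v : ι → F) : D.form u v = u ⬝ᵥ D.T *ᵥ (D.τ ∘ v) := rfl

lemma form_add_left (x y v : ι → F) : D.form (x + y) v = D.form x v + D.form y v :=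
  add_dotProduct x y _

lemma form_smul_left (c : F) (x v : ι → F) : D.form (c • x) v = c * D.form x v := by
  simp [form_def, smul_dotProduct]

lemma form_add_right (v x y : ι → F) : D.form v (x + y) = D.form v x + D.form v y := by
  have : (D.τ ∘ (x + y) : ι → F) = D.τ ∘ x + D.τ ∘ y := funext fun i => map_add D.τ (x i) (y i)
  rw [form_def, this, Matrix.mulVec_add, dotProduct_add]
  rfl

lemma form_smul_right (c : F) (v x : ι → F) : D.form v (c • x) = D.τ c * D.form v x := by
  have : (D.τ ∘ (c • x) : ι → F) = D.τ c • (D.τ ∘ x) := funext fun i => map_mul D.τ c (x i)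
  rw [form_def, this, Matrix.mulVec_smul, dotProduct_smul, smul_eq_mul]
  rfl

lemma form_zero_left (v : ι → F) : D.form 0 v = 0 := zero_dotProduct _

lemma form_zero_right (v : ι → F) : D.form v 0 = 0 := by
  have h := D.form_smul_right 0 v 0
  rwa [zero_smul, map_zero, zero_mul] at h

lemma form_neg_left (x v : ι → F) : D.form (-x) v = -D.form x v := neg_dotProduct x _

lemma τ_form (u v : ι → F) : D.τ (D.form u v) = D.ε * D.form v u := by
  have h1 : D.τ (D.form u v) = (D.τ ∘ u) ⬝ᵥ (D.T.map D.τ) *ᵥ (D.τ ∘ (D.τ ∘ v)) := by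
    show D.τ.toRingHom _ = _
    rw [form_def, RingHom.map_dotProduct, map_mulVec_comp]
    rfl
  rw [h1, show D.τ ∘ (D.τ ∘ v) = v from funext fun i => D.invol (v i),
    Matrix.dotProduct_mulVec, dotProduct_comm, ← Matrix.mulVec_transpose, D.refl, Matrix.smul_mulVec,
    dotProduct_smul, smul_eq_mul, form_def]

lemma ne_zero [Nonempty ι] : D.ε ≠ 0 := by
  intro h
  have h1 : D.T.map D.τ = 0 := by
    have := D.refl
    rwa [h, zero_smul, Matrix.transpose_eq_zero] at this
  have h2 : D.T = 0 := by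
    ext i j
    have := congrFun (congrFun h1 i) j
    simpa using this
  have := D.isUnit
  rw [h2, Matrix.det_zero] at this
  exact not_isUnit_zero this

lemma form_eq_zero_comm [Nonempty ι] {u v : ι → F} (h : D.form u v = 0) : D.form v u = 0 := by
  have h1 := D.τ_form u v
  rw [h, map_zero] at h1
  exact (mul_eq_zero.1 h1.symm).resolve_left D.ne_zero

lemma eq_of_forall_left {a b : ι → F} (h : ∀ u, D.form u a = D.form u b) : a = b := by
  have h1 : D.T *ᵥ (D.τ ∘ a) = D.T *ᵥ (D.τ ∘ b) := by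
    funext i
    have := h (Pi.single i 1)
    simpa [form_def, single_dotProduct] using this
  have hinj := Matrix.mulVec_injective_iff_isUnit.2 ((Matrix.isUnit_iff_isUnit_det D.T).2 D.isUnit)
  exact funext fun i => D.τ.injective (congrFun (hinj h1) i)

lemma nondegenerate : Cfsg.Geo.IsNondegenerateForm D.form :=
  isNondegenerateForm_sesqForm D.τ.toRingHom D.isUnit

/-- The similarity group of the form. -/
def sim : Subgroup (GL ι F) := Cfsg.Geo.similarityGroup D.form

/-- The adjoint of a matrix. -/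
noncomputable def adj (x : Matrix ι ι F) : Matrix ι ι F := (D.T⁻¹ * xᵀ * D.T).map D.τ

lemma form_mulVec_left (x : Matrix ι ι F) (u v : ι → F) :
    D.form (x *ᵥ u) v = D.form u (D.adj x *ᵥ v) := by
  have h1 : (D.τ ∘ (D.adj x *ᵥ v) : ι → F) = (D.T⁻¹ * xᵀ * D.T) *ᵥ (D.τ ∘ v) := by
    show D.τ.toRingHom ∘ _ = _
    rw [map_mulVec_comp, adj, Matrix.map_map]
    congr 1
    ext i j
    exact D.invol _
  rw [form_def, form_def, h1, Matrix.mulVec_mulVec, ← mul_assoc, ← mul_assoc,
    Matrix.mul_nonsing_inv _ D.isUnit, one_mul, ← Matrix.mulVec_mulVec, Matrix.dotProduct_mulVec u xᵀ,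
    Matrix.vecMul_transpose]

lemma eq_adj {x y : Matrix ι ι F} (h : ∀ u v, D.form (x *ᵥ u) v = D.form u (y *ᵥ v)) :
    y = D.adj x := by
  apply Matrix.ext_iff_mulVec.2
  intro v
  exact D.eq_of_forall_left fun u => by rw [← h, form_mulVec_left]

lemma adj_add (x y : Matrix ι ι F) : D.adj (x + y) = D.adj x + D.adj y :=
  (D.eq_adj fun u v => by
    rw [Matrix.add_mulVec, form_add_left, form_mulVec_left, form_mulVec_left, Matrix.add_mulVec,
      form_add_right]).symm

lemma adj_smul (c : F) (x : Matrix ι ι F) : D.adj (c • x) = D.τ c • D.adj x :=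
  (D.eq_adj fun u v => by
    rw [Matrix.smul_mulVec, form_smul_left, form_mulVec_left, Matrix.smul_mulVec, form_smul_right,
      D.invol]).symm

lemma adj_one : D.adj 1 = 1 := (D.eq_adj fun u v => by simp).symm

lemma adj_zero : D.adj 0 = 0 := (D.eq_adj fun u v => by simp [form_zero_left, form_zero_right]).symm

lemma adj_mul (x y : Matrix ι ι F) : D.adj (x * y) = D.adj y * D.adj x :=
  (D.eq_adj fun u v => by
    rw [← Matrix.mulVec_mulVec, form_mulVec_left, form_mulVec_left, Matrix.mulVec_mulVec]).symm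

lemma adj_adj [Nonempty ι] (x : Matrix ι ι F) : D.adj (D.adj x) = x := by
  refine (D.eq_adj fun u v => ?_).symm
  have h1 := D.τ_form (x *ᵥ v) u
  rw [form_mulVec_left, D.τ_form] at h1
  exact mul_left_cancel₀ D.ne_zero h1

lemma adj_sub (x y : Matrix ι ι F) : D.adj (x - y) = D.adj x - D.adj y := by
  rw [eq_sub_iff_add_eq, ← adj_add, sub_add_cancel]

lemma adj_scalar (c : F) : D.adj (c • (1 : Matrix ι ι F)) = D.τ c • 1 := by
  rw [adj_smul, adj_one]

lemma adj_injective [Nonempty ι] : Function.Injective D.adj := fun x y h => by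
  rw [← D.adj_adj x, h, D.adj_adj]

lemma adj_of_mem_sim {g : GL ι F} (hg : g ∈ D.sim) :
    ∃ c : F, c ≠ 0 ∧ D.adj (g : Matrix ι ι F) = c • ((g⁻¹ : GL ι F) : Matrix ι ι F) := by
  obtain ⟨c, hc⟩ := hg
  refine ⟨D.τ c, (map_ne_zero D.τ).2 c.ne_zero, (D.eq_adj fun u v => ?_).symm⟩
  have h := hc u (((g⁻¹ : GL ι F) : Matrix ι ι F) *ᵥ v)
  rw [Matrix.mulVec_mulVec, Units.mul_inv, Matrix.one_mulVec] at h
  rw [h, Matrix.smul_mulVec, form_smul_right, D.invol]

lemma adj_conjMat {g : GL ι F} (hg : g ∈ D.sim) (x : Matrix ι ι F) :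
    D.adj (conjMat g x) = conjMat g (D.adj x) := by
  obtain ⟨c, hc⟩ := hg
  refine (D.eq_adj fun u v => ?_).symm
  set u' := ((g⁻¹ : GL ι F) : Matrix ι ι F) *ᵥ u with hu
  set v' := ((g⁻¹ : GL ι F) : Matrix ι ι F) *ᵥ v with hv
  have hgu : (g : Matrix ι ι F) *ᵥ u' = u := by
    rw [hu, Matrix.mulVec_mulVec, Units.mul_inv, Matrix.one_mulVec]
  have hgv : (g : Matrix ι ι F) *ᵥ v' = v := by
    rw [hv, Matrix.mulVec_mulVec, Units.mul_inv, Matrix.one_mulVec]
  rw [← hgu, ← hgv, conjMat_mulVec, conjMat_mulVec, hc, hc, form_mulVec_left]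

/-- The algebra spanned by a group of similarities is closed under adjoints. -/
theorem adj_mem_adjoin {N : Subgroup (GL ι F)} (hN : N ≤ D.sim) {x : Matrix ι ι F}
    (hx : x ∈ Algebra.adjoin F (Cfsg.Geo.matrixSet N)) :
    D.adj x ∈ Algebra.adjoin F (Cfsg.Geo.matrixSet N) := by
  induction hx using Algebra.adjoin_induction with
  | mem y hy =>
    obtain ⟨g, hg, rfl⟩ := hy
    obtain ⟨c, -, hc⟩ := D.adj_of_mem_sim (hN hg)
    rw [hc]
    exact Subalgebra.smul_mem _ (Algebra.subset_adjoin (mem_matrixSet (inv_mem hg))) _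
  | algebraMap c =>
    rw [Algebra.algebraMap_eq_smul_one, adj_scalar]
    exact Subalgebra.smul_mem _ (one_mem _) _
  | add y z _ _ hy hz => rw [adj_add]; exact add_mem hy hz
  | mul y z _ _ hy hz => rw [adj_mul]; exact mul_mem hz hy

/-- The centre of an adjoint-closed algebra is adjoint-closed. -/
theorem adj_mem_subCentre [Nonempty ι] {A : Subalgebra F (Matrix ι ι F)}
    (hA : ∀ x ∈ A, D.adj x ∈ A) {z : Matrix ι ι F} (hz : z ∈ subCentre A) :
    D.adj z ∈ subCentre A := by
  rw [mem_subCentre] at hz ⊢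
  refine ⟨hA z hz.1, fun a ha => ?_⟩
  have h := congrArg D.adj (hz.2 _ (hA a ha))
  rw [adj_mul, adj_mul, adj_adj] at h
  exact h.symm

/-- The orthogonal of a subspace. -/
def perp (W : Submodule F (ι → F)) : Submodule F (ι → F) where
  carrier := {v | ∀ w ∈ W, D.form w v = 0}
  add_mem' {x y} hx hy w hw := by rw [form_add_right, hx w hw, hy w hw, add_zero]
  zero_mem' w _ := D.form_zero_right w
  smul_mem' c x hx w hw := by rw [form_smul_right, hx w hw, mul_zero]

lemma mem_perp {W : Submodule F (ι → F)} {v : ι → F} :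
    v ∈ D.perp W ↔ ∀ w ∈ W, D.form w v = 0 := Iff.rfl

lemma perp_invariant {W : Submodule F (ι → F)} {H : Subgroup (GL ι F)} (hH : H ≤ D.sim)
    (hW : ∀ g ∈ H, ∀ v ∈ W, (g : Matrix ι ι F) *ᵥ v ∈ W) :
    ∀ g ∈ H, ∀ v ∈ D.perp W, (g : Matrix ι ι F) *ᵥ v ∈ D.perp W := by
  intro g hg v hv w hw
  obtain ⟨c, hc⟩ := hH hg
  have hw' : (g : Matrix ι ι F) *ᵥ (((g⁻¹ : GL ι F) : Matrix ι ι F) *ᵥ w) = w := by
    rw [Matrix.mulVec_mulVec, Units.mul_inv, Matrix.one_mulVec]
  rw [← hw', hc, hv _ (hW _ (inv_mem hg) w hw), mul_zero]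

theorem finrank_perp [Finite F] (W : Submodule F (ι → F)) :
    Module.finrank F W + Module.finrank F (D.perp W) = Fintype.card ι := by
  classical
  haveI : Fintype F := Fintype.ofFinite F
  let e : (ι → F) →ₗ[F] Module.Dual F (ι → F) :=
    { toFun := fun z => dotProductEquiv F ι (D.T *ᵥ z)
      map_add' := fun x y => by rw [Matrix.mulVec_add, map_add]
      map_smul' := fun c x => by rw [Matrix.mulVec_smul, map_smul, RingHom.id_apply] }
  let L : (ι → F) →ₗ[F] Module.Dual F W := W.dualRestrict.comp e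
  have hsurj : Function.Surjective L := by
    intro f
    obtain ⟨g, rfl⟩ := Subspace.dualRestrict_surjective (W := W) f
    refine ⟨D.T⁻¹ *ᵥ (dotProductEquiv F ι).symm g, ?_⟩
    simp [L, e, Matrix.mulVec_mulVec, Matrix.mul_nonsing_inv _ D.isUnit]
  have hker := L.finrank_range_add_finrank_ker
  rw [LinearMap.range_eq_top.2 hsurj, finrank_top, Subspace.dual_finrank_eq,
    Module.finrank_fintype_fun_eq_card] at hker
  have hmem : ∀ v, v ∈ D.perp W ↔ (D.τ ∘ v : ι → F) ∈ LinearMap.ker L := by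
    intro v
    rw [LinearMap.mem_ker, LinearMap.ext_iff]
    simp only [mem_perp, Subtype.forall]
    refine forall_congr' fun w => forall_congr' fun hw => ?_
    simp only [L, e, LinearMap.comp_apply, LinearMap.coe_mk, AddHom.coe_mk,
      Submodule.dualRestrict_apply, dotProductEquiv_apply_apply, LinearMap.zero_apply, form_def]
    rw [dotProduct_comm]
  have hcard : Nat.card (D.perp W) = Nat.card (LinearMap.ker L) := Nat.card_congr
    { toFun := fun v => ⟨D.τ ∘ (v : ι → F), (hmem v).1 v.2⟩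
      invFun := fun z => ⟨D.τ ∘ (z : ι → F), (hmem _).2 (by
        rw [show D.τ ∘ (D.τ ∘ (z : ι → F)) = (z : ι → F) from funext fun i => D.invol _]
        exact z.2)⟩
      left_inv := fun v => Subtype.ext (funext fun i => D.invol _)
      right_inv := fun v => Subtype.ext (funext fun i => D.invol _) }
  rw [Module.natCard_eq_pow_finrank (K := F) (V := D.perp W),
    Module.natCard_eq_pow_finrank (K := F) (V := LinearMap.ker L)] at hcard
  have heq := Nat.pow_right_injective
    (show 2 ≤ Nat.card F from Nat.card_eq_fintype_card (α := F) ▸ Fintype.one_lt_card) hcard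
  omega

lemma isNondegenerateOn_of_inf [Nonempty ι] {W : Submodule F (ι → F)} (h : W ⊓ D.perp W = ⊥) :
    Cfsg.Geo.IsNondegenerateOn D.form W := by
  intro w hw hw0
  obtain ⟨x, hx, hxw⟩ : ∃ x ∈ W, D.form x w ≠ 0 := by
    by_contra hall
    push Not at hall
    have : w ∈ W ⊓ D.perp W := ⟨hw, hall⟩
    rw [h, Submodule.mem_bot] at this
    exact hw0 this
  exact ⟨⟨x, hx, hxw⟩, x, hx, fun h0 => hxw (D.form_eq_zero_comm h0)⟩

/-- A reducible group of similarities fixes a totally singular or a small non-degenerate subspace, or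
a decomposition into two orthogonal halves. -/
theorem reducible_cases [Finite F] [Nonempty ι] {H : Subgroup (GL ι F)} (hH : H ≤ D.sim)
    (hred : ¬ Irred H) :
    (∃ W : Submodule F (ι → F), W ≠ ⊥ ∧ Cfsg.Geo.IsTotallySingularFor D.form W ∧
      H ≤ Cfsg.Geo.subspaceStabilizer W) ∨
    (∃ W : Submodule F (ι → F), W ≠ ⊥ ∧ Cfsg.Geo.IsNondegenerateOn D.form W ∧
      2 * Module.finrank F W < Fintype.card ι ∧ H ≤ Cfsg.Geo.subspaceStabilizer W) ∨
    (∃ (k : ℕ) (E : Fin 2 → Submodule F (ι → F)), 2 * k = Fintype.card ι ∧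
      Cfsg.Geo.IsNondegenerateMDecomposition D.form k E ∧ H ≤ Cfsg.Geo.decompositionStabilizer E) := by
  classical
  obtain ⟨W, h0, h1, hle⟩ := exists_le_subspaceStabilizer hred
  have hW : ∀ g ∈ H, ∀ v ∈ W, (g : Matrix ι ι F) *ᵥ v ∈ W := fun g hg v hv =>
    (mem_subspaceStabilizer.1 (hle hg) v).1 hv
  have hP := D.perp_invariant hH hW
  by_cases hrad : W ⊓ D.perp W = ⊥
  swap
  · refine Or.inl ⟨W ⊓ D.perp W, hrad, fun u hu v hv => hv.2 u hu.1, fun g hg => ?_⟩
    exact mem_subspaceStabilizer_of_forall fun v hv => ⟨hW g hg v hv.1, hP g hg v hv.2⟩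
  have hnd := D.isNondegenerateOn_of_inf hrad
  have hsum := D.finrank_perp W
  have hWle : W ≤ D.perp (D.perp W) := fun w hw v hv => D.form_eq_zero_comm (hv w hw)
  have hperp2 : D.perp (D.perp W) = W := by
    refine (Submodule.eq_of_le_of_finrank_le hWle ?_).symm
    have := D.finrank_perp (D.perp W)
    omega
  have hrad' : D.perp W ⊓ D.perp (D.perp W) = ⊥ := by rw [hperp2, inf_comm]; exact hrad
  have hnd' := D.isNondegenerateOn_of_inf hrad'
  have hne : D.perp W ≠ ⊥ := by
    intro h
    rw [h, finrank_bot, add_zero] at hsum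
    exact h1 (Submodule.eq_top_of_finrank_eq (by rw [hsum, Module.finrank_fintype_fun_eq_card]))
  rcases lt_trichotomy (2 * Module.finrank F W) (Fintype.card ι) with h | h | h
  · exact Or.inr (Or.inl ⟨W, h0, hnd, h, hle⟩)
  · refine Or.inr (Or.inr ⟨Module.finrank F W, ![W, D.perp W], h, ⟨⟨le_rfl,
      Submodule.one_le_finrank_iff.2 h0, ?_, ?_, ?_⟩, ?_, ?_⟩, fun g hg => ⟨1, ?_⟩⟩)
    · intro i; fin_cases i
      · rfl
      · show Module.finrank F (D.perp W) = _
        omega
    · rw [iSupIndep_pair (i := (0 : Fin 2)) (j := 1) (by decide) (by intro k; fin_cases k <;> simp)]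
      exact disjoint_iff.2 hrad
    · rw [eq_top_iff]
      have htop : W ⊔ D.perp W = ⊤ := by
        apply Submodule.eq_top_of_finrank_eq
        have h2 := Submodule.finrank_sup_add_finrank_inf_eq W (D.perp W)
        rw [hrad, finrank_bot, add_zero, hsum] at h2
        rw [h2, Module.finrank_fintype_fun_eq_card]
      rw [← htop]
      exact sup_le (le_iSup ![W, D.perp W] 0) (le_iSup ![W, D.perp W] 1)
    · intro i; fin_cases i
      · exact hnd
      · exact hnd'
    · intro i j hij
      fin_cases i <;> fin_cases j <;> try exact absurd rfl hij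
      · exact fun u hu v hv => hv u hu
      · exact fun u hu v hv => D.form_eq_zero_comm (hu v hv)
    · intro i
      have hmap : ∀ X : Submodule F (ι → F), (∀ g ∈ H, ∀ v ∈ X, (g : Matrix ι ι F) *ᵥ v ∈ X) →
          X.map (Matrix.toLin' (g : Matrix ι ι F)) = X := by
        intro X hX
        refine le_antisymm ?_ fun v hv => ⟨((g⁻¹ : GL ι F) : Matrix ι ι F) *ᵥ v, hX _ (inv_mem hg) v hv, by
          rw [Matrix.toLin'_apply, Matrix.mulVec_mulVec, Units.mul_inv, Matrix.one_mulVec]⟩
        rintro _ ⟨v, hv, rfl⟩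
        rw [Matrix.toLin'_apply]
        exact hX g hg v hv
      fin_cases i
      · exact hmap W hW
      · exact hmap _ hP
  · exact Or.inr (Or.inl ⟨D.perp W, hne, hnd', by omega,
      fun g hg => mem_subspaceStabilizer_of_forall (hP g hg)⟩)

end FormData

end Cfsg.Agent.Aschbacher
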