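/-
Clifford theory for a group of similarities: what the centre of an adjoint-closed algebra normalised
by the group gives.
-/
import Mathlib
import Cfsg.Agent.Aschbacher.Formed.Basic

set_option autoImplicit false
set_option linter.style.haveILetI false

namespace Cfsg.Agent.Aschbacher

open Matrix

variable {ι : Type} [Fintype ι] [DecidableEq ι] {F : Type*} [Field F]

namespace FormData

variable (D : FormData ι F) (H : Subgroup (GL ι F))

/-- `H` fixes a decomposition into orthogonal non-degenerate parts. -/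
def HasNondegDecomposition : Prop :=
  ∃ (t k : ℕ) (E : Fin t → Submodule F (ι → F)),
    Cfsg.Geo.IsNondegenerateMDecomposition D.form k E ∧ H ≤ Cfsg.Geo.decompositionStabilizer E

/-- `H` fixes a pair of complementary totally singular subspaces. -/
def HasSingularPair : Prop :=
  ∃ (k : ℕ) (E : Fin 2 → Submodule F (ι → F)) (e : Matrix ι ι F),
    Cfsg.Geo.IsMDecomposition k E ∧ (∀ i, Cfsg.Geo.IsTotallySingularFor D.form (E i)) ∧
    H ≤ Cfsg.Geo.decompositionStabilizer E ∧ D.adj e = 1 - e ∧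
    ∀ g ∈ H, conjMat g e = e ∨ conjMat g e = 1 - e

/-- `H` normalises a field of matrices bigger than the scalars, closed under adjoints. -/
def HasField : Prop :=
  ∃ Z : Subalgebra F (Matrix ι ι F), (∀ x ∈ Z, ∀ y ∈ Z, x * y = y * x) ∧
    (∀ x ∈ Z, x ≠ 0 → ∃ y ∈ Z, x * y = 1) ∧ (∀ x ∈ Z, D.adj x ∈ Z) ∧
    (∀ g ∈ H, ∀ x ∈ Z, conjMat g x ∈ Z) ∧ ∃ z₀ ∈ Z, ∀ c : F, z₀ ≠ c • 1

/-- The images of pairwise orthogonal self-adjoint idempotents are orthogonal and non-degenerate. -/
lemma isNondegenerateMDecomposition_of_selfAdjoint [Nonempty ι] {t k : ℕ} {E : Fin t → Matrix ι ι F}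
    {V : Fin t → Submodule F (ι → F)} (hV : Cfsg.Geo.IsMDecomposition k V)
    (hrange : ∀ i, V i = LinearMap.range (Matrix.toLin' (E i))) (hidem : ∀ i, E i * E i = E i)
    (hortho : ∀ i j, i ≠ j → E i * E j = 0) (hadj : ∀ i, D.adj (E i) = E i) :
    Cfsg.Geo.IsNondegenerateMDecomposition D.form k V := by
  refine ⟨hV, fun i => ?_, fun i j hij => ?_⟩
  · rw [hrange]
    rintro w ⟨u, rfl⟩ hw0
    obtain ⟨x, hx⟩ := (D.nondegenerate _ hw0).1
    rw [Matrix.toLin'_apply] at hx ⊢
    have h1 : D.form (E i *ᵥ x) (E i *ᵥ u) ≠ 0 := by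
      rw [form_mulVec_left, hadj, Matrix.mulVec_mulVec, hidem]
      exact hx
    exact ⟨⟨_, ⟨x, Matrix.toLin'_apply _ _⟩, h1⟩,
      ⟨_, ⟨x, Matrix.toLin'_apply _ _⟩, fun h => h1 (D.form_eq_zero_comm h)⟩⟩
  · rw [hrange, hrange]
    rintro _ ⟨u, rfl⟩ _ ⟨v, rfl⟩
    rw [Matrix.toLin'_apply, Matrix.toLin'_apply, form_mulVec_left, hadj, Matrix.mulVec_mulVec,
      hortho i j hij, Matrix.zero_mulVec, form_zero_right]

variable [Fintype F] [Nonempty ι]

/-- A commutative reduced algebra, stable under adjoints and under `H`, with more than the scalars. -/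
theorem cases_of_commutative (hH : H ≤ D.sim) (hirr : Irred H) (Z : Subalgebra F (Matrix ι ι F))
    (hcomm : ∀ x ∈ Z, ∀ y ∈ Z, x * y = y * x) (hred : ∀ z ∈ Z, ∀ k : ℕ, z ^ k = 0 → z = 0)
    (hadj : ∀ x ∈ Z, D.adj x ∈ Z) (hconj : ∀ g ∈ H, ∀ x ∈ Z, conjMat g x ∈ Z)
    (hns : ∃ z₀ ∈ Z, ∀ c : F, z₀ ≠ c • 1) :
    D.HasNondegDecomposition H ∨ D.HasSingularPair H ∨ D.HasField H := by
  classical
  by_cases hid : ∀ e ∈ Z, e * e = e → e = 0 ∨ e = 1
  · exact Or.inr (Or.inr ⟨Z, hcomm, fun x hx hx0 => exists_inv_of_no_idempotent _ hred hid hx hx0,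
      hadj, hconj, hns⟩)
  push Not at hid
  obtain ⟨e, he, hei, he0, he1⟩ := hid
  obtain ⟨t, m, E, V, hV, hle, hE, hortho, hprim, hone, htrans⟩ :=
    exists_decomposition_of_idempotent Z hcomm hirr hconj he hei he0 he1
  have ht : 2 ≤ t := hV.two_le
  have hinj : ∀ i j, E i = E j → i = j := by
    intro i j h
    by_contra hij
    have h1 := hortho i j hij
    rw [← h, (hE i).2.1] at h1
    exact (hprim i).1 h1
  -- a non-zero idempotent that behaves like a primitive one is one of them
  have hfind : ∀ x ∈ Z, x * x = x → x ≠ 0 → (∀ j, x * E j = 0 ∨ x * E j = x) → ∃ j, x = E j := by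
    intro x hx hxi hx0 hxp
    obtain ⟨j, hj⟩ : ∃ j, E j * x ≠ 0 := by
      by_contra h
      push Not at h
      apply hx0
      rw [← one_mul x, ← hone, Finset.sum_mul]
      exact Finset.sum_eq_zero fun j _ => h j
    have h1 : E j * x = E j := ((hprim j).2 x hx hxi).resolve_left hj
    have h2 : x * E j = E j := by rw [hcomm x hx _ (hE j).1]; exact h1
    rcases hxp j with h3 | h3
    · exact absurd (h3.symm.trans h2).symm (hprim j).1
    · exact ⟨j, h3.symm.trans h2⟩
  have hadjE : ∀ i, ∃ j, D.adj (E i) = E j := by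
    intro i
    refine hfind _ (hadj _ (hE i).1) (by rw [← adj_mul, (hE i).2.1]) ?_ fun j => ?_
    · exact fun h => (hprim i).1 (D.adj_injective (h.trans D.adj_zero.symm))
    · have h1 : D.adj (E i) * E j = D.adj (E i * D.adj (E j)) := by
        rw [adj_mul, adj_adj]
        exact hcomm _ (hadj _ (hE i).1) _ (hE j).1
      rw [h1]
      rcases (hprim i).2 _ (hadj _ (hE j).1) (by rw [← adj_mul, (hE j).2.1]) with h | h
      · exact Or.inl (by rw [h, adj_zero])
      · exact Or.inr (by rw [h])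
  choose π hπ using hadjE
  have hππ : ∀ i, π (π i) = i := fun i => hinj _ _ (by rw [← hπ, ← hπ, adj_adj])
  have hcomm' : ∀ g ∈ H, ∀ i j, conjMat g (E i) = E j → conjMat g (E (π i)) = E (π j) := by
    intro g hg i j h
    rw [← hπ, ← D.adj_conjMat (hH hg), h, hπ]
  by_cases hfix : ∃ i, π i = i
  · obtain ⟨i₀, hi₀⟩ := hfix
    have hall : ∀ i, D.adj (E i) = E i := by
      intro i
      obtain ⟨g, hg, hgi⟩ := htrans i i₀
      have h1 := hcomm' g hg i₀ i hgi
      rw [hi₀, hgi] at h1
      rw [hπ, ← h1]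
    exact Or.inl ⟨t, m, V, D.isNondegenerateMDecomposition_of_selfAdjoint hV
      (fun i => (hE i).2.2) (fun i => (hE i).2.1) hortho hall, hle⟩
  push Not at hfix
  rcases Nat.lt_or_ge t 3 with h3 | h3
  · right; left
    obtain rfl : t = 2 := by omega
    have hπ0 : π 0 = 1 := by
      have := hfix 0
      revert this
      generalize π 0 = j
      fin_cases j <;> simp
    have hπ1 : π 1 = 0 := by rw [← hπ0, hππ]
    have hsum : E 1 = 1 - E 0 := by
      rw [eq_sub_iff_add_eq, add_comm, ← hone, Fin.sum_univ_two]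
    refine ⟨m, V, E 0, hV, fun i => ?_, hle, by rw [hπ, hπ0, hsum], fun g hg => ?_⟩
    · rw [(hE i).2.2]
      rintro _ ⟨u, rfl⟩ _ ⟨v, rfl⟩
      rw [Matrix.toLin'_apply, Matrix.toLin'_apply, form_mulVec_left, Matrix.mulVec_mulVec, hπ,
        hortho _ _ (hfix i), Matrix.zero_mulVec, form_zero_right]
    · obtain ⟨j, hj⟩ : ∃ j, conjMat g (E 0) = E j := by
        refine hfind _ (hconj g hg _ (hE 0).1) (by rw [← map_mul, (hE 0).2.1])
          (by simpa using (hprim 0).1) fun j => ?_
        have h1 : conjMat g (conjMat g⁻¹ (E j)) = E j := by simp [conjMat_apply, mul_assoc]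
        rw [← h1, ← map_mul]
        rcases (hprim 0).2 _ (hconj _ (inv_mem hg) _ (hE j).1)
            (by rw [← map_mul, (hE j).2.1]) with h | h
        · exact Or.inl (by rw [h, map_zero])
        · exact Or.inr (by rw [h])
      fin_cases j
      · exact Or.inl hj
      · exact Or.inr (hj.trans hsum)
  · -- pairs of exchanged idempotents give self-adjoint ones
    left
    let S : Set (Matrix ι ι F) := {x | x ∈ Z ∧ x * x = x ∧ D.adj x = x}
    let Z' : Subalgebra F (Matrix ι ι F) := Algebra.adjoin F S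
    have hZ'Z : Z' ≤ Z := Algebra.adjoin_le fun x hx => hx.1
    have hconj' : ∀ g ∈ H, ∀ x ∈ Z', conjMat g x ∈ Z' := by
      intro g hg
      have hle' : Z' ≤ Z'.comap (conjMat g : Matrix ι ι F →ₐ[F] Matrix ι ι F) := by
        refine Algebra.adjoin_le fun x hx => ?_
        exact Algebra.subset_adjoin
          ⟨hconj g hg x hx.1, by rw [← map_mul]; exact congrArg _ hx.2.1,
            (D.adj_conjMat (hH hg) x).trans (congrArg _ hx.2.2)⟩
      exact fun x hx => hle' hx
    have hpair : ∀ x ∈ Z', ∀ i, ∃ c : F, E i * x = c • E i ∧ E (π i) * x = c • E (π i) := by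
      intro x hx i
      induction hx using Algebra.adjoin_induction with
      | mem y hy =>
        obtain ⟨hyZ, hyi, hya⟩ := hy
        have h1 : D.adj (E i * y) = E (π i) * y := by
          rw [adj_mul, hya, hπ]
          exact hcomm _ hyZ _ (hE _).1
        rcases (hprim i).2 y hyZ hyi with h | h
        · exact ⟨0, by rw [h, zero_smul], by rw [← h1, h, adj_zero, zero_smul]⟩
        · exact ⟨1, by rw [h, one_smul], by rw [← h1, h, hπ, one_smul]⟩
      | algebraMap c =>
        exact ⟨c, by rw [Algebra.algebraMap_eq_smul_one, mul_smul_comm, mul_one],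
          by rw [Algebra.algebraMap_eq_smul_one, mul_smul_comm, mul_one]⟩
      | add y z _ _ hy hz =>
        obtain ⟨a, ha, ha'⟩ := hy
        obtain ⟨b, hb, hb'⟩ := hz
        exact ⟨a + b, by rw [mul_add, ha, hb, add_smul], by rw [mul_add, ha', hb', add_smul]⟩
      | mul y z _ _ hy hz =>
        obtain ⟨a, ha, ha'⟩ := hy
        obtain ⟨b, hb, hb'⟩ := hz
        exact ⟨a * b, by rw [← mul_assoc, ha, smul_mul_assoc, hb, smul_smul],
          by rw [← mul_assoc, ha', smul_mul_assoc, hb', smul_smul]⟩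
    have hsa : ∀ f ∈ Z', f * f = f → D.adj f = f := by
      intro f hf hfi
      have key : ∀ i, E (π i) * D.adj f = E (π i) * f := by
        intro i
        obtain ⟨c, hc, hc'⟩ := hpair f hf i
        have hcc : c * c = c := by
          have h1 : (c * c) • E i = c • E i := by
            rw [← smul_smul, ← hc, ← smul_mul_assoc, ← hc, mul_assoc, hfi]
          exact smul_left_injective F (hprim i).1 h1
        have hτc : D.τ c = c := by
          rcases eq_or_ne c 0 with h0 | h0
          · rw [h0, map_zero]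
          · rw [(mul_eq_left₀ h0).1 hcc, map_one]
        have h2 := congrArg D.adj hc
        rw [adj_mul, adj_smul, hτc, hπ] at h2
        rw [hcomm _ (hE _).1 _ (hadj _ (hZ'Z hf)), h2, ← hc']
      calc D.adj f = (∑ i, E i) * D.adj f := by rw [hone, one_mul]
        _ = ∑ i, E i * f := by
          rw [Finset.sum_mul]
          exact Finset.sum_congr rfl fun i _ => by
            have := key (π i)
            rwa [hππ] at this
        _ = f := by rw [← Finset.sum_mul, hone, one_mul]
    set i₀ : Fin t := ⟨0, by omega⟩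
    set e₁ := E i₀ + E (π i₀) with he₁
    have he₁i : e₁ * e₁ = e₁ := by
      rw [he₁, mul_add, add_mul, add_mul, (hE i₀).2.1, (hE (π i₀)).2.1,
        hortho _ _ (hfix i₀), hortho _ _ (hfix i₀).symm, add_zero, zero_add]
    have he₁Z' : e₁ ∈ Z' := Algebra.subset_adjoin ⟨add_mem (hE _).1 (hE _).1, he₁i,
      by rw [he₁, adj_add, hπ, hπ, hππ, add_comm]⟩
    have he₁0 : e₁ ≠ 0 := by
      intro h
      apply (hprim i₀).1
      have h1 := congrArg (E i₀ * ·) h
      simpa [he₁, mul_add, (hE i₀).2.1, hortho _ _ (hfix i₀).symm] using h1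
    have he₁1 : e₁ ≠ 1 := by
      intro h
      obtain ⟨j, hj1, hj2⟩ := Fin.exists_ne_and_ne_of_two_lt i₀ (π i₀) (by omega)
      apply (hprim j).1
      have h1 := congrArg (E j * ·) h
      simpa [he₁, mul_add, hortho _ _ hj1, hortho _ _ hj2] using h1.symm
    obtain ⟨t', m', E', V', hV', hle', hE', hortho', -⟩ :=
      exists_decomposition_of_idempotent Z'
        (fun x hx y hy => hcomm x (hZ'Z hx) y (hZ'Z hy)) hirr hconj' he₁Z' he₁i he₁0 he₁1
    exact ⟨t', m', V', D.isNondegenerateMDecomposition_of_selfAdjoint hV'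
      (fun i => (hE' i).2.2) (fun i => (hE' i).2.1) hortho'
      (fun i => hsa _ (hE' i).1 (hE' i).2.1), hle'⟩

/-- What the centre of an adjoint-closed algebra normalised by `H` gives. -/
theorem centre_cases (hH : H ≤ D.sim) (hirr : Irred H) (A : Subalgebra F (Matrix ι ι F))
    (hconj : ∀ g ∈ H, ∀ x ∈ A, conjMat g x ∈ A) (hadj : ∀ x ∈ A, D.adj x ∈ A)
    (hns : ∃ z₀ ∈ subCentre A, ∀ c : F, z₀ ≠ c • 1) :
    D.HasNondegDecomposition H ∨ D.HasSingularPair H ∨ D.HasField H :=
  D.cases_of_commutative H hH hirr (subCentre A)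
    (fun x hx _ hy => (mem_subCentre.1 hy).2 x (mem_subCentre.1 hx).1)
    (subCentre_reduced A hirr hconj) (fun _ hz => D.adj_mem_subCentre hadj hz)
    (fun g hg _ hz => conjMat_mem_subCentre (hconj g hg) (hconj _ (inv_mem hg)) hz) hns

end FormData

/-- An algebra normalised by an irreducible group with only scalars in its centre is a full matrix
algebra. -/
theorem exists_algEquiv_of_scalar_centre [Fintype F] [Nonempty ι] (A : Subalgebra F (Matrix ι ι F))
    {H : Subgroup (GL ι F)} (hirr : Irred H) (hconj : ∀ g ∈ H, ∀ x ∈ A, conjMat g x ∈ A)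
    (hsc : ∀ z ∈ subCentre A, ∃ c : F, z = c • (1 : Matrix ι ι F)) :
    ∃ a : ℕ, 0 < a ∧ Nonempty (A ≃ₐ[F] Matrix (Fin a) (Fin a) F) := by
  refine exists_algEquiv_matrix (jacobson_bot_eq_bot A hirr hconj) fun z hz => ?_
  obtain ⟨c, hc⟩ := hsc z (mem_subCentre.2 ⟨z.2, fun a ha =>
    (congrArg Subtype.val (hz ⟨a, ha⟩)).symm⟩)
  exact ⟨c, Subtype.ext (by simpa [Algebra.algebraMap_eq_smul_one] using hc)⟩

end Cfsg.Agent.Aschbacher
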