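/-
Forms fixed by an absolutely irreducible group and realisability over subfields.
-/
import Mathlib
import Cfsg.Agent.Aschbacher.Formed.Basic
import Cfsg.Agent.Aschbacher.Subfield

set_option autoImplicit false
set_option linter.style.haveILetI false

namespace Cfsg.Agent.Aschbacher

open Matrix

variable {ι : Type} [Fintype ι] [DecidableEq ι] {F : Type*} [Field F] [Finite F]

/-- An automorphism of a finite field maps every subfield into itself. -/
lemma map_mem_subfield (σ : F →+* F) (F₁ : Subfield F) {x : F} (hx : x ∈ F₁) : σ x ∈ F₁ := by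
  classical
  haveI : Fintype F := Fintype.ofFinite F
  set N := Fintype.card F₁ with hN
  have hN1 : 1 < N := Fintype.one_lt_card
  have hpow : ∀ y : F, y ∈ F₁ → y ^ N = y := fun y hy =>
    congrArg Subtype.val (FiniteField.pow_card (⟨y, hy⟩ : F₁))
  let S : Finset F := Finset.univ.filter fun y => y ^ N = y
  have hp0 : (Polynomial.X ^ N - Polynomial.X : Polynomial F) ≠ 0 :=
    FiniteField.X_pow_card_sub_X_ne_zero F hN1
  have hle : S.card ≤ N := by
    calc S.card ≤ (Polynomial.X ^ N - Polynomial.X : Polynomial F).roots.toFinset.card :=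
          Finset.card_le_card fun y hy => by
            rw [Multiset.mem_toFinset, Polynomial.mem_roots hp0]
            simp [(Finset.mem_filter.1 hy).2]
      _ ≤ _ := Multiset.toFinset_card_le _
      _ ≤ _ := Polynomial.card_roots' _
      _ = N := FiniteField.X_pow_card_sub_X_natDegree_eq F hN1
  let T : Finset F := Finset.univ.filter fun y => y ∈ F₁
  have hT : T.card = N := by rw [hN, Fintype.card_subtype]
  have heq : T = S := Finset.eq_of_subset_of_card_le
    (fun y hy => Finset.mem_filter.2 ⟨Finset.mem_univ _, hpow y (Finset.mem_filter.1 hy).2⟩)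
    (hT ▸ hle)
  have h : σ x ∈ T := by
    rw [heq]
    exact Finset.mem_filter.2 ⟨Finset.mem_univ _, by rw [← map_pow, hpow x hx]⟩
  exact (Finset.mem_filter.1 h).2

/-- A fixed form of a group written over a subfield has a multiple with entries in it. -/
theorem exists_smul_mem_subfield [Nonempty ι] (τ : F →+* F) (F₁ : Subfield F) {P : Subgroup (GL ι F)}
    (habs : Cfsg.Geo.ActsAbsolutelyIrreducibly (Cfsg.Geo.matrixSet P)) {T : Matrix ι ι F}
    (hT : IsUnit T.det) (h : Fixes τ P T) (hP : ∀ s ∈ P, ∀ i j, (s : Matrix ι ι F) i j ∈ F₁) :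
    ∃ c : F, c ≠ 0 ∧ ∀ i j, c * T i j ∈ F₁ := by
  obtain ⟨i₀, j₀, hne⟩ : ∃ i j, T i j ≠ 0 := by
    by_contra hall
    push Not at hall
    rw [show T = 0 from Matrix.ext hall, Matrix.det_zero] at hT
    exact not_isUnit_zero hT
  obtain ⟨l, hl⟩ := Module.Projective.exists_dual_ne_zero F₁ hne
  let T0 : Matrix ι ι F := T.map fun x => ((l x : F₁) : F)
  have hlin : ∀ (a c : F), c ∈ F₁ → ((l (c * a) : F₁) : F) = c * (l a : F₁) := by
    intro a c hc
    have := l.map_smul ⟨c, hc⟩ a
    rw [Subfield.smul_def, smul_eq_mul] at this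
    rw [this]
    rfl
  have hfix : Fixes τ P T0 := by
    intro s hs
    ext i j
    have h1 := congrArg (fun x => ((l x : F₁) : F)) (congrFun (congrFun (h s hs) i) j)
    simp only [Matrix.mul_apply, Matrix.transpose_apply, Matrix.map_apply, Finset.sum_mul, map_sum,
      AddSubmonoidClass.coe_finsetSum] at h1
    simp only [Matrix.mul_apply, Matrix.transpose_apply, Matrix.map_apply, Finset.sum_mul, T0]
    convert h1 using 1
    refine Finset.sum_congr rfl fun u _ => Finset.sum_congr rfl fun v _ => ?_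
    have hm : (s : Matrix ι ι F) v i * τ ((s : Matrix ι ι F) u j) ∈ F₁ :=
      mul_mem (hP s hs v i) (map_mem_subfield τ F₁ (hP s hs u j))
    rw [mul_right_comm, ← hlin _ _ hm, mul_right_comm]
  obtain ⟨c, hc⟩ := exists_smul_of_fixes τ habs hT h hfix
  refine ⟨c, fun h0 => hl ?_, fun i j => ?_⟩
  · have := congrFun (congrFun hc i₀) j₀
    rw [h0, zero_smul, Matrix.zero_apply] at this
    exact Subtype.ext this
  · have := congrFun (congrFun hc i) j
    rw [Matrix.smul_apply, smul_eq_mul] at this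
    rw [← this]
    exact (l (T i j)).2

/-- A group normalising an absolutely irreducible group of isometries realisable over a proper
subfield lies in a subfield group compatible with the form. -/
theorem FormData.exists_subfield_member [Fintype F] [Nonempty ι] (D : FormData ι F)
    {H P : Subgroup (GL ι F)}
    (habs : Cfsg.Geo.ActsAbsolutelyIrreducibly (Cfsg.Geo.matrixSet P))
    (hnorm : ∀ g ∈ H, ∀ x ∈ P, g * x * g⁻¹ ∈ P) (hfix : Fixes D.τ.toRingHom P D.T)
    {F₀ : Subfield F} (hne : F₀ ≠ ⊤) (hreal : Cfsg.Geo.RealisableOver F₀ (Cfsg.Geo.matrixSet P)) :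
    ∃ (F₁ : Subfield F) (r : ℕ) (Q : GL ι F) (ζ : F), r.Prime ∧
      Fintype.card F = Nat.card F₁ ^ r ∧ ζ ≠ 0 ∧
      Cfsg.Geo.IsFormRationalStructure D.form F₁ ζ Q ∧ H ≤ Cfsg.Geo.subfieldSubgroup F₁ Q := by
  obtain ⟨F₁, r, hle, hr, hcard, -⟩ := exists_prime_index_subfield F₀ hne
  obtain ⟨B, hB⟩ := map_mem_of_le hle hreal
  have hB' : ∀ s ∈ P, ∀ i j, conjMat B (s : Matrix ι ι F) i j ∈ F₁ := fun s hs => hB _ (mem_matrixSet hs)
  set Bi : Matrix ι ι F := ((B⁻¹ : GL ι F) : Matrix ι ι F) with hBi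
  set P' := P.map (MulAut.conj B).toMonoidHom with hP'
  set T1 := Biᵀ * D.T * Bi.map D.τ with hT1
  have hT1u : IsUnit T1.det := by
    rw [hT1, Matrix.det_mul, Matrix.det_mul, Matrix.det_transpose]
    refine ((Matrix.GeneralLinearGroup.det B⁻¹).isUnit.mul D.isUnit).mul ?_
    rw [show (Bi.map D.τ).det = D.τ Bi.det from (RingEquiv.map_det D.τ _).symm]
    exact (Matrix.GeneralLinearGroup.det B⁻¹).isUnit.map D.τ
  have hfix' : Fixes D.τ.toRingHom P' T1 := by
    rintro _ ⟨s, hs, rfl⟩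
    have h1 : Bi * (((MulAut.conj B) s : GL ι F) : Matrix ι ι F) = (s : Matrix ι ι F) * Bi := by
      rw [hBi, ← Units.val_mul, ← Units.val_mul, MulAut.conj_apply]
      congr 1
      group
    show (((MulAut.conj B) s : GL ι F) : Matrix ι ι F)ᵀ * T1 *
      (((MulAut.conj B) s : GL ι F) : Matrix ι ι F).map D.τ = T1
    calc _ = (Bi * (((MulAut.conj B) s : GL ι F) : Matrix ι ι F))ᵀ * D.T *
          (Bi * (((MulAut.conj B) s : GL ι F) : Matrix ι ι F)).map D.τ := by
          rw [hT1, Matrix.transpose_mul, Matrix.map_mul]; simp only [mul_assoc]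
      _ = Biᵀ * ((s : Matrix ι ι F)ᵀ * D.T * (s : Matrix ι ι F).map D.τ) * Bi.map D.τ := by
          rw [h1, Matrix.transpose_mul, Matrix.map_mul]; simp only [mul_assoc]
      _ = T1 := by rw [show (s : Matrix ι ι F)ᵀ * D.T * (s : Matrix ι ι F).map D.τ = D.T from hfix s hs]
  have habs' : Cfsg.Geo.ActsAbsolutelyIrreducibly (Cfsg.Geo.matrixSet P') := by
    constructor
    · rw [actsIrreducibly_iff]
      intro W hW
      have hirr := (actsIrreducibly_iff _).1 habs.1
        (W.comap (Matrix.toLin' (B : Matrix ι ι F))) (by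
          rintro _ ⟨s, hs, rfl⟩ v hv
          rw [Submodule.mem_comap, Matrix.toLin'_apply] at hv ⊢
          have h1 := hW _ (mem_matrixSet (Subgroup.mem_map_of_mem _ hs : (MulAut.conj B) s ∈ P')) _ hv
          simpa [MulAut.conj_apply, Matrix.mulVec_mulVec, mul_assoc] using h1)
      have hsurj : Function.Surjective (Matrix.toLin' (B : Matrix ι ι F)) := fun w =>
        ⟨Bi *ᵥ w, by rw [Matrix.toLin'_apply, Matrix.mulVec_mulVec, hBi, Units.mul_inv, Matrix.one_mulVec]⟩
      rcases hirr with h | h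
      · left
        rw [← Submodule.map_comap_eq_of_surjective hsurj W, h, Submodule.map_bot]
      · right
        rw [← Submodule.map_comap_eq_of_surjective hsurj W, h, Submodule.map_top,
          LinearMap.range_eq_top.2 hsurj]
    · intro M hM
      obtain ⟨c, hc⟩ := habs.2 (conjMat B⁻¹ M) (by
        rintro _ ⟨s, hs, rfl⟩
        apply (conjMat B).injective
        have hBB : conjMat B (conjMat B⁻¹ M) = M := by simp [conjMat_apply, mul_assoc]
        show conjMat B (_ * (s : Matrix ι ι F)) = conjMat B ((s : Matrix ι ι F) * _)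
        rw [map_mul (conjMat B), map_mul (conjMat B), hBB, conjMat_units]
        exact hM _ (mem_matrixSet (Subgroup.mem_map_of_mem _ hs : (MulAut.conj B) s ∈ P')))
      refine ⟨c, ?_⟩
      have h1 := congrArg (conjMat B) hc
      rw [map_smul, map_one] at h1
      simpa [conjMat_apply, mul_assoc] using h1
  obtain ⟨c, hc0, hc⟩ := exists_smul_mem_subfield D.τ.toRingHom F₁ habs' hT1u hfix' (by
    rintro _ ⟨s, hs, rfl⟩ i j
    have := hB' s hs i j
    rwa [conjMat_units] at this)
  refine ⟨F₁, r, B⁻¹, c, hr, hcard, hc0, fun u v hu hv => ?_, fun g hg =>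
    mem_subfieldSubgroup_of_normalizes habs F₁ B hB' (hnorm g hg)⟩
  show c * sesqForm D.τ.toRingHom D.T (Bi *ᵥ u) (Bi *ᵥ v) ∈ F₁
  rw [sesqForm_mulVec]
  show c * (u ⬝ᵥ T1 *ᵥ (D.τ.toRingHom ∘ v)) ∈ F₁
  simp only [dotProduct, Matrix.mulVec, Finset.mul_sum]
  refine sum_mem fun i _ => sum_mem fun j _ => ?_
  rw [show c * (u i * (T1 i j * (D.τ.toRingHom ∘ v) j)) =
    u i * ((c * T1 i j) * D.τ.toRingHom (v j)) by simp only [Function.comp_apply]; ring]
  exact mul_mem (hu i) (mul_mem (hc i j) (map_mem_subfield _ _ (hv j)))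

/-- Every non-zero fixed point of an involution of a finite field is a norm. -/
lemma exists_mul_map_eq (σ : F →+* F) (hinv : ∀ a, σ (σ a) = a) {a₀ : F} (ha₀ : σ a₀ ≠ a₀)
    {l : F} (hl : σ l = l) (hl0 : l ≠ 0) : ∃ a : F, a * σ a = l := by
  classical
  haveI : Fintype F := Fintype.ofFinite F
  let su : Fˣ →* Fˣ := Units.map σ.toMonoidHom
  let N : Fˣ →* Fˣ := MonoidHom.id Fˣ * su
  let M : Fˣ →* Fˣ := MonoidHom.id Fˣ * su⁻¹
  have hker : N.ker ≤ M.range := by
    intro a ha
    have h1 : (a : F) * σ a = 1 := congrArg Units.val (MonoidHom.mem_ker.1 ha)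
    by_cases hb : 1 + (a : F) = 0
    · refine ⟨Units.mk0 (a₀ - σ a₀) (sub_ne_zero.2 (Ne.symm ha₀)), ?_⟩
      apply Units.ext
      have h2 : σ (a₀ - σ a₀) = -(a₀ - σ a₀) := by rw [map_sub, hinv, neg_sub]
      have h3 : (a : F) = -1 := eq_neg_of_add_eq_zero_right hb
      show (a₀ - σ a₀) * ((su (Units.mk0 _ _))⁻¹ : Fˣ) = (a : F)
      rw [Units.val_inv_eq_inv_val, h3]
      show (a₀ - σ a₀) * (σ (a₀ - σ a₀))⁻¹ = -1
      rw [h2, inv_neg, mul_neg, mul_inv_cancel₀ (sub_ne_zero.2 (Ne.symm ha₀))]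
    · refine ⟨Units.mk0 _ hb, ?_⟩
      apply Units.ext
      show (1 + (a : F)) * ((su (Units.mk0 _ hb))⁻¹ : Fˣ) = (a : F)
      rw [Units.val_inv_eq_inv_val]
      show (1 + (a : F)) * (σ (1 + (a : F)))⁻¹ = (a : F)
      rw [map_add, map_one, mul_inv_eq_iff_eq_mul₀, mul_add, mul_one, h1, add_comm]
      intro h0
      apply hb
      have := congrArg σ h0
      rwa [map_add, map_one, hinv, map_zero] at this
  let K : Subgroup Fˣ := M.ker
  have hK : ∀ u : Fˣ, u ∈ K ↔ σ u = u := by
    intro u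
    rw [MonoidHom.mem_ker, Units.ext_iff]
    show (u : F) * ((su u)⁻¹ : Fˣ) = 1 ↔ _
    rw [Units.val_inv_eq_inv_val]
    show (u : F) * (σ u)⁻¹ = 1 ↔ _
    rw [mul_inv_eq_one₀ ((map_ne_zero σ).2 u.ne_zero), eq_comm]
  have hNK : N.range ≤ K := by
    rintro _ ⟨u, rfl⟩
    rw [hK]
    show σ ((u : F) * σ u) = (u : F) * σ u
    rw [map_mul, hinv, mul_comm]
  have h1 := N.ker.card_mul_index
  have h2 := M.ker.card_mul_index
  rw [Subgroup.index_ker] at h1 h2
  have h3 : Nat.card N.ker ≤ Nat.card M.range := Subgroup.card_le_of_le hker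
  have h4 : Nat.card K ≤ Nat.card N.range := by
    refine Nat.le_of_mul_le_mul_left ?_ (Nat.card_pos : 0 < Nat.card N.ker)
    calc Nat.card N.ker * Nat.card K ≤ Nat.card M.range * Nat.card K :=
          Nat.mul_le_mul_right _ h3
      _ = Nat.card N.ker * Nat.card N.range := by rw [mul_comm, h1, h2]
  have h5 := Subgroup.eq_of_le_of_card_ge hNK h4
  obtain ⟨u, hu⟩ := (h5 ▸ (hK (Units.mk0 l hl0)).2 hl : Units.mk0 l hl0 ∈ N.range)
  exact ⟨u, congrArg Units.val hu⟩

/-- An absolutely irreducible group fixing a bilinear form and a sesquilinear one is realisable over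
the fixed field of the involution. -/
theorem exists_realisable_of_two_forms [Nonempty ι] (σ : F →+* F) (hinv : ∀ a, σ (σ a) = a) {a₀ : F}
    (ha₀ : σ a₀ ≠ a₀) {P : Subgroup (GL ι F)}
    (habs : Cfsg.Geo.ActsAbsolutelyIrreducibly (Cfsg.Geo.matrixSet P)) {T S : Matrix ι ι F}
    (hT : IsUnit T.det) (hS : IsUnit S.det) (hfixT : Fixes (RingHom.id F) P T) (hfixS : Fixes σ P S) :
    ∃ F₀ : Subfield F, F₀ ≠ ⊤ ∧ Cfsg.Geo.RealisableOver F₀ (Cfsg.Geo.matrixSet P) := by
  classical
  set C := T⁻¹ * S with hC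
  have hCu : IsUnit C.det := by
    rw [hC, Matrix.det_mul]
    exact (Matrix.isUnit_nonsing_inv_det T hT).mul hS
  have hcomm : ∀ s ∈ P, (s : Matrix ι ι F) * C = C * (s : Matrix ι ι F).map σ := by
    intro s hs
    have h1 : (s : Matrix ι ι F)ᵀ * T * (s : Matrix ι ι F) = T := by
      have h := hfixT s hs
      rwa [RingHom.coe_id, Matrix.map_id] at h
    have hsd : IsUnit ((s : Matrix ι ι F)ᵀ).det := by
      rw [Matrix.det_transpose]; exact (Matrix.GeneralLinearGroup.det s).isUnit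
    have hinj : Function.Injective fun X : Matrix ι ι F => (s : Matrix ι ι F)ᵀ * T * X := by
      intro X Y h
      have hu : IsUnit ((s : Matrix ι ι F)ᵀ * T).det := by rw [Matrix.det_mul]; exact hsd.mul hT
      have := congrArg (((s : Matrix ι ι F)ᵀ * T)⁻¹ * ·) h
      simpa [← mul_assoc, Matrix.nonsing_inv_mul _ hu] using this
    apply hinj
    show _ * ((s : Matrix ι ι F) * C) = _ * (C * (s : Matrix ι ι F).map σ)
    rw [← mul_assoc _ (s : Matrix ι ι F) C, h1, hC, ← mul_assoc T, Matrix.mul_nonsing_inv _ hT, one_mul]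
    simp only [← mul_assoc]
    rw [mul_assoc ((s : Matrix ι ι F)ᵀ) T T⁻¹, Matrix.mul_nonsing_inv _ hT, mul_one]
    exact (hfixS s hs).symm
  have hσσ : ∀ X : Matrix ι ι F, (X.map σ).map σ = X := fun X => Matrix.ext fun i j => hinv _
  obtain ⟨l, hl⟩ := habs.2 (C * C.map σ) (by
    rintro _ ⟨s, hs, rfl⟩
    have h2 : (s : Matrix ι ι F).map σ * C.map σ = C.map σ * (s : Matrix ι ι F) := by
      rw [← Matrix.map_mul, hcomm s hs, Matrix.map_mul, hσσ]
    show C * C.map σ * (s : Matrix ι ι F) = (s : Matrix ι ι F) * (C * C.map σ)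
    rw [mul_assoc, ← h2, ← mul_assoc, ← hcomm s hs, mul_assoc])
  have hC0 : C ≠ 0 := fun h => by rw [h, Matrix.det_zero] at hCu; exact not_isUnit_zero hCu
  have hCs : IsUnit (C.map σ).det := by
    rw [show (C.map σ).det = σ C.det from (RingHom.map_det σ C).symm]
    exact hCu.map σ
  have hl0 : l ≠ 0 := by
    rintro rfl
    rw [zero_smul] at hl
    have := congrArg Matrix.det hl
    rw [Matrix.det_mul, Matrix.det_zero] at this
    exact (hCu.mul hCs).ne_zero this
  have hσl : σ l = l := by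
    have h1 : C.map σ * C = σ l • 1 := by
      have := congrArg (fun X : Matrix ι ι F => X.map σ) hl
      simp only [Matrix.map_mul, hσσ, Matrix.map_smul' σ l (1 : Matrix ι ι F) (map_mul σ),
        Matrix.map_one σ (map_zero σ) (map_one σ)] at this
      exact this
    have h2 : C * (C.map σ * C) = C * C.map σ * C := (mul_assoc _ _ _).symm
    rw [h1, hl, Matrix.mul_smul, mul_one, Matrix.smul_mul, one_mul] at h2
    exact smul_left_injective F hC0 h2
  obtain ⟨a, ha⟩ := exists_mul_map_eq σ hinv ha₀ (l := l⁻¹) (by rw [map_inv₀, hσl]) (inv_ne_zero hl0)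
  set C' := a • C with hC'
  have hC'2 : C' * C'.map σ = 1 := by
    rw [hC', Matrix.map_smul' σ a C (map_mul σ), Matrix.smul_mul, Matrix.mul_smul, smul_smul, hl, smul_smul,
      ha, inv_mul_cancel₀ hl0, one_smul]
  have hcomm' : ∀ s ∈ P, (s : Matrix ι ι F) * C' = C' * (s : Matrix ι ι F).map σ := fun s hs => by
    rw [hC', Matrix.mul_smul, Matrix.smul_mul, hcomm s hs]
  let Ψ : (ι → F) → (ι → F) := fun v => C' *ᵥ (σ ∘ v)
  have hΨΨ : ∀ v, Ψ (Ψ v) = v := by
    intro v
    show C' *ᵥ (σ ∘ (C' *ᵥ (σ ∘ v))) = v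
    rw [map_mulVec_comp, Matrix.mulVec_mulVec, hC'2, Matrix.one_mulVec]
    exact funext fun i => hinv (v i)
  have hΨadd : ∀ u v, Ψ (u + v) = Ψ u + Ψ v := fun u v => by
    show C' *ᵥ _ = _
    rw [show σ ∘ (u + v) = σ ∘ u + σ ∘ v from funext fun i => map_add σ (u i) (v i), Matrix.mulVec_add]
  have hΨsmul : ∀ (c : F) v, Ψ (c • v) = σ c • Ψ v := fun c v => by
    show C' *ᵥ _ = _
    rw [show σ ∘ (c • v) = σ c • (σ ∘ v) from funext fun i => map_mul σ c (v i), Matrix.mulVec_smul]
  have hspan : Submodule.span F {v | Ψ v = v} = ⊤ := by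
    rw [eq_top_iff]
    intro v _
    have h1 : ∀ c : F, c • v + Ψ (c • v) ∈ {v | Ψ v = v} := fun c => by
      show Ψ _ = _
      rw [hΨadd, hΨΨ, add_comm]
    have h2 : (a₀ • v + Ψ (a₀ • v)) - σ a₀ • ((1 : F) • v + Ψ ((1 : F) • v)) = (a₀ - σ a₀) • v := by
      rw [hΨsmul, one_smul, smul_add, sub_smul]; abel
    have h3 : (a₀ - σ a₀) • v ∈ Submodule.span F {v | Ψ v = v} := h2 ▸
      sub_mem (Submodule.subset_span (h1 a₀)) (Submodule.smul_mem _ _ (Submodule.subset_span (h1 1)))
    have h4 := Submodule.smul_mem _ (a₀ - σ a₀)⁻¹ h3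
    rwa [inv_smul_smul₀ (sub_ne_zero.2 (Ne.symm ha₀))] at h4
  obtain ⟨b, hbsub, hbspan, hbli⟩ := exists_linearIndependent F {v : ι → F | Ψ v = v}
  haveI : Finite b := inferInstance
  haveI : Fintype b := Fintype.ofFinite b
  let bas := Module.Basis.mk hbli (by rw [Subtype.range_coe, hbspan, hspan])
  let eb : b ≃ ι := Fintype.equivOfCardEq (by
    rw [← Module.finrank_eq_card_basis bas, Module.finrank_fintype_fun_eq_card])
  let M : Matrix ι ι F := fun i j => (eb.symm j : ι → F) i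
  have hMu : IsUnit M := by
    rw [← Matrix.linearIndependent_cols_iff_isUnit]
    exact hbli.comp _ eb.symm.injective
  have hMfix : C' * M.map σ = M := by
    ext i j
    have := congrFun (show Ψ (eb.symm j : ι → F) = (eb.symm j : ι → F) from hbsub (eb.symm j).2) i
    rw [Matrix.mul_apply]
    exact this
  obtain ⟨Mu, hMu'⟩ := hMu
  refine ⟨RingHom.eqLocusField σ (RingHom.id F), fun h => ha₀ ?_, Mu⁻¹, ?_⟩
  · have : a₀ ∈ RingHom.eqLocusField σ (RingHom.id F) := h ▸ Subfield.mem_top _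
    exact this
  rintro _ ⟨s, hs, rfl⟩ i j
  set Mi : Matrix ι ι F := ((Mu⁻¹ : GL ι F) : Matrix ι ι F) with hMi
  show σ ((Mi * (s : Matrix ι ι F) * ((Mu⁻¹⁻¹ : GL ι F) : Matrix ι ι F)) i j) = _
  rw [inv_inv, hMu']
  set X := Mi * (s : Matrix ι ι F) * M with hX
  have hMX : M * X = (s : Matrix ι ι F) * M := by
    rw [hX, ← mul_assoc, ← mul_assoc, ← hMu', hMi, Units.mul_inv, one_mul]
  have h1 : M * X.map σ = M * X := by
    calc M * X.map σ = C' * M.map σ * X.map σ := by rw [hMfix]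
      _ = C' * (M * X).map σ := by rw [mul_assoc C', ← Matrix.map_mul]
      _ = C' * (s : Matrix ι ι F).map σ * M.map σ := by rw [hMX, Matrix.map_mul, mul_assoc]
      _ = (s : Matrix ι ι F) * (C' * M.map σ) := by rw [← hcomm' s hs, mul_assoc]
      _ = M * X := by rw [hMfix, hMX]
  have h2 := congrArg (Mi * ·) h1
  simp only [← mul_assoc, ← hMu', hMi, Units.inv_mul, one_mul] at h2
  exact congrFun (congrFun h2 i) j

end Cfsg.Agent.Aschbacher
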