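/-
The Gram matrix of a form with an adjoint-stable tensor decomposition factorises.
-/
import Mathlib
import Cfsg.Agent.Aschbacher.Formed.Basic
import Cfsg.Agent.Aschbacher.Tensor
import Cfsg.Agent.Aschbacher.WreathTwo

set_option autoImplicit false
set_option linter.style.haveILetI false

namespace Cfsg.Agent.Aschbacher

open Matrix
open scoped Kronecker

variable {ι : Type} [Fintype ι] [DecidableEq ι] {F : Type*} [Field F]

/-- A non-zero matrix intertwining all matrices is invertible. -/
lemma isUnit_det_of_intertwine {κ : Type*} [Fintype κ] [DecidableEq κ] {B : Matrix κ κ F}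
    (hB : B ≠ 0) (h : ∀ x : Matrix κ κ F, ∃ y, xᵀ * B = B * y) : IsUnit B.det := by
  rw [← Matrix.isUnit_iff_isUnit_det, ← Matrix.mulVec_surjective_iff_isUnit]
  obtain ⟨v, hv⟩ : ∃ v, B *ᵥ v ≠ 0 := by
    by_contra hall
    push Not at hall
    exact hB (Matrix.ext_iff_mulVec.2 fun v => by rw [hall, Matrix.zero_mulVec])
  obtain ⟨i, hi⟩ : ∃ i, (B *ᵥ v) i ≠ 0 := Function.ne_iff.1 hv
  intro w
  obtain ⟨y, hy⟩ := h (Matrix.vecMulVec w (Pi.single i ((B *ᵥ v) i)⁻¹))ᵀ
  rw [Matrix.transpose_transpose] at hy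
  refine ⟨y *ᵥ v, ?_⟩
  rw [Matrix.mulVec_mulVec, ← hy, ← Matrix.mulVec_mulVec]
  funext j
  rw [Matrix.vecMulVec_mulVec, single_dotProduct, inv_mul_cancel₀ hi]
  simp

/-- A matrix commuting with every matrix is scalar. -/
lemma eq_smul_one_of_forall_commute {κ : Type*} [Fintype κ] [DecidableEq κ] {M : Matrix κ κ F}
    (h : ∀ x : Matrix κ κ F, M * x = x * M) : ∃ c : F, M = c • (1 : Matrix κ κ F) := by
  obtain ⟨c, hc⟩ := Matrix.mem_range_scalar_of_commute_single (M := M)
    (fun i j _ => (h (Matrix.single i j 1)).symm)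
  exact ⟨c, by rw [← hc, Matrix.smul_one_eq_diagonal]; rfl⟩

/-- Two matrices intertwining all matrices in the same way are proportional. -/
lemma exists_smul_of_intertwine {κ : Type*} [Fintype κ] [DecidableEq κ] {B B' : Matrix κ κ F}
    (hB : IsUnit B.det) (h : ∀ x : Matrix κ κ F, ∃ y, xᵀ * B = B * y ∧ xᵀ * B' = B' * y) :
    ∃ c : F, B' = c • B := by
  obtain ⟨c, hc⟩ := eq_smul_one_of_forall_commute (M := B' * B⁻¹) fun x => by
    obtain ⟨y, h1, h2⟩ := h xᵀ
    rw [Matrix.transpose_transpose] at h1 h2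
    calc B' * B⁻¹ * x = B' * B⁻¹ * (x * B) * B⁻¹ := by
          simp only [mul_assoc, Matrix.mul_nonsing_inv _ hB, mul_one]
      _ = B' * (B⁻¹ * B) * y * B⁻¹ := by rw [h1]; simp only [mul_assoc]
      _ = x * (B' * B⁻¹) := by
          rw [Matrix.nonsing_inv_mul _ hB, mul_one, ← h2, mul_assoc]
  refine ⟨c, ?_⟩
  calc B' = B' * B⁻¹ * B := by rw [mul_assoc, Matrix.nonsing_inv_mul _ hB, mul_one]
    _ = c • B := by rw [hc, Matrix.smul_mul, one_mul]

/-- The transformed Gram matrix. -/
noncomputable def FormData.pull (D : FormData ι F) {κ : Type} [Fintype κ] [DecidableEq κ] (e : ι ≃ κ)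
    (P : GL ι F) : Matrix κ κ F :=
  ((P : Matrix ι ι F)ᵀ * D.T * (P : Matrix ι ι F).map D.τ).submatrix e.symm e.symm

namespace FormData

variable (D : FormData ι F) {κ : Type} [Fintype κ] [DecidableEq κ] (e : ι ≃ κ) (P : GL ι F)

lemma form_pull (x y : κ → F) :
    D.form ((P : Matrix ι ι F) *ᵥ (x ∘ e)) ((P : Matrix ι ι F) *ᵥ (y ∘ e)) =
      x ⬝ᵥ D.pull e P *ᵥ (D.τ ∘ y) := by
  rw [show D.form ((P : Matrix ι ι F) *ᵥ (x ∘ e)) ((P : Matrix ι ι F) *ᵥ (y ∘ e)) =
    sesqForm D.τ.toRingHom D.T ((P : Matrix ι ι F) *ᵥ (x ∘ e)) ((P : Matrix ι ι F) *ᵥ (y ∘ e)) from rfl,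
    sesqForm_mulVec, sesqForm]
  have h : D.pull e P *ᵥ (D.τ ∘ y) =
      (((P : Matrix ι ι F)ᵀ * D.T * (P : Matrix ι ι F).map D.τ) *ᵥ (D.τ ∘ y ∘ e)) ∘ e.symm :=
    Matrix.submatrix_mulVec_equiv _ _ _ _
  rw [h, dotProduct_comp_equiv_symm]
  rfl

lemma isUnit_det_pull : IsUnit (D.pull e P).det := by
  rw [pull, Matrix.det_submatrix_equiv_self, Matrix.det_mul, Matrix.det_mul, Matrix.det_transpose]
  refine ((Matrix.GeneralLinearGroup.det P).isUnit.mul D.isUnit).mul ?_
  rw [show ((P : Matrix ι ι F).map D.τ).det = D.τ (P : Matrix ι ι F).det from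
    (RingEquiv.map_det D.τ _).symm]
  exact (Matrix.GeneralLinearGroup.det P).isUnit.map D.τ

lemma pull_refl : ((D.pull e P).map D.τ)ᵀ = D.ε • D.pull e P := by
  have hττ : ((P : Matrix ι ι F).map D.τ).map D.τ = (P : Matrix ι ι F) := by
    rw [Matrix.map_map]
    ext i j
    exact D.invol _
  rw [pull, ← Matrix.submatrix_map, Matrix.transpose_submatrix, Matrix.map_mul, Matrix.map_mul,
    Matrix.transpose_mul, Matrix.transpose_mul, D.refl, Matrix.transpose_map, Matrix.transpose_transpose,
    hττ, Matrix.smul_mul, Matrix.mul_smul, mul_assoc]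
  rfl

/-- An adjoint relation in the coordinates given by `e` and `P`. -/
lemma pull_intertwine {M M' : Matrix κ κ F}
    (h : D.adj (conjMat P (M.submatrix e e)) = conjMat P (M'.submatrix e e)) :
    Mᵀ * D.pull e P = D.pull e P * M'.map D.τ := by
  set N := M.submatrix e e with hN
  set N' := M'.submatrix e e with hN'
  have h1 : (conjMat P N)ᵀ * D.T = D.T * (conjMat P N').map D.τ := by
    have h2 := congrArg (fun X : Matrix ι ι F => D.T * X.map D.τ) h
    simp only [adj, Matrix.map_map] at h2
    rw [show (⇑D.τ ∘ ⇑D.τ) = id from funext D.invol, Matrix.map_id, ← mul_assoc, ← mul_assoc,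
      Matrix.mul_nonsing_inv _ D.isUnit, one_mul] at h2
    exact h2
  have hP : ((P : Matrix ι ι F)ᵀ) * (((P⁻¹ : GL ι F) : Matrix ι ι F))ᵀ = 1 := by
    rw [← Matrix.transpose_mul, Units.inv_mul, Matrix.transpose_one]
  have h3 : Nᵀ * ((P : Matrix ι ι F)ᵀ * D.T * (P : Matrix ι ι F).map D.τ) =
      ((P : Matrix ι ι F)ᵀ * D.T * (P : Matrix ι ι F).map D.τ) * N'.map D.τ := by
    calc Nᵀ * ((P : Matrix ι ι F)ᵀ * D.T * (P : Matrix ι ι F).map D.τ)
        = (P : Matrix ι ι F)ᵀ * ((conjMat P N)ᵀ * D.T) * (P : Matrix ι ι F).map D.τ := by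
          rw [conjMat_apply, Matrix.transpose_mul, Matrix.transpose_mul]
          simp only [← mul_assoc]
          rw [hP, one_mul]
      _ = (P : Matrix ι ι F)ᵀ * D.T * ((conjMat P N' * (P : Matrix ι ι F)).map D.τ) := by
          rw [h1, Matrix.map_mul]
          simp only [mul_assoc]
      _ = _ := by
          rw [conjMat_apply, mul_assoc _ _ (P : Matrix ι ι F), Units.inv_mul, mul_one, Matrix.map_mul]
          simp only [mul_assoc]
  calc Mᵀ * D.pull e P = (Nᵀ).submatrix e.symm e.symm * D.pull e P := by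
        congr 1; ext i j; simp [hN]
    _ = (D.pull e P) * (N'.map D.τ).submatrix e.symm e.symm := by
        rw [pull, Matrix.submatrix_mul_equiv, h3, Matrix.submatrix_mul_equiv]
    _ = _ := by congr 1; ext i j; simp [hN']

end FormData

/-- The Gram matrix of a form with an adjoint-stable tensor decomposition is a Kronecker product. -/
theorem FormData.exists_gram_tensor [Nonempty ι] (D : FormData ι F) {a k : ℕ}
    (Θ : Matrix (Fin a) (Fin a) F →ₐ[F] Matrix ι ι F) (e : ι ≃ Fin a × Fin k) (P : GL ι F)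
    (hΘ : ∀ x, Θ x = conjMat P ((x ⊗ₖ (1 : Matrix (Fin k) (Fin k) F)).submatrix e e))
    (hadj : ∀ x, ∃ y, D.adj (Θ x) = Θ y) :
    ∃ (G : Matrix (Fin a) (Fin a) F) (S : Matrix (Fin k) (Fin k) F),
      IsUnit G.det ∧ IsUnit S.det ∧ D.pull e P = G ⊗ₖ S := by
  classical
  set T' := D.pull e P with hT'
  let B : Fin k → Fin k → Matrix (Fin a) (Fin a) F := fun p q i j => T' (i, p) (j, q)
  have hB : ∀ x, ∃ y, ∀ p q, xᵀ * B p q = B p q * y := by
    intro x
    obtain ⟨y, hy⟩ := hadj x
    rw [hΘ, hΘ] at hy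
    have h1 := D.pull_intertwine e P hy
    refine ⟨y.map D.τ, fun p q => ?_⟩
    ext i j
    have h2 := congrFun (congrFun h1 (i, p)) (j, q)
    simp only [Matrix.mul_apply, Fintype.sum_prod_type, Matrix.transpose_apply, Matrix.map_apply,
      Matrix.kronecker, Matrix.kroneckerMap_apply, Matrix.one_apply] at h2
    rw [Matrix.mul_apply, Matrix.mul_apply]
    simpa [B, hT', apply_ite D.τ] using h2
  obtain ⟨p₀, q₀, hne⟩ : ∃ p q, B p q ≠ 0 := by
    by_contra hall
    push Not at hall
    have h0 : T' = 0 := by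
      ext ⟨i, p⟩ ⟨j, q⟩
      exact congrFun (congrFun (hall p q) i) j
    have hu := D.isUnit_det_pull e P
    haveI : Nonempty (Fin a × Fin k) := e.nonempty_congr.1 inferInstance
    rw [← hT', h0, Matrix.det_zero] at hu
    exact not_isUnit_zero hu
  have hG : IsUnit (B p₀ q₀).det :=
    isUnit_det_of_intertwine hne fun x => (hB x).imp fun y hy => hy p₀ q₀
  choose S hS using fun p q => exists_smul_of_intertwine (B' := B p q) hG
    fun x => (hB x).imp fun y hy => ⟨hy p₀ q₀, hy p q⟩
  have heq : T' = B p₀ q₀ ⊗ₖ Matrix.of S := by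
    ext ⟨i, p⟩ ⟨j, q⟩
    have h := congrFun (congrFun (hS p q) i) j
    rw [Matrix.smul_apply, smul_eq_mul] at h
    show T' (i, p) (j, q) = B p₀ q₀ i j * S p q
    rw [mul_comm]
    exact h
  refine ⟨B p₀ q₀, Matrix.of S, hG, ?_, heq⟩
  rw [isUnit_iff_ne_zero]
  intro h0
  have := D.isUnit_det_pull e P
  rw [← hT', heq, Matrix.det_kronecker, h0, Fintype.card_fin, zero_pow (by
    obtain ⟨i⟩ := ‹Nonempty ι›
    first
      | exact (Nat.pos_iff_ne_zero.1 (e i).1.pos)
      | (rw [Fintype.card_fin]; exact (Nat.pos_iff_ne_zero.1 (e i).1.pos))), mul_zero] at this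
  exact not_isUnit_zero this

/-- Two Kronecker products of invertible matrices agree only when the factors are proportional. -/
lemma exists_smul_of_kronecker_eq {κ μ : Type} [Fintype κ] [DecidableEq κ] [Nonempty κ]
    [Fintype μ] [DecidableEq μ] [Nonempty μ]
    {A C : Matrix κ κ F} {B D : Matrix μ μ F} (hC : IsUnit C.det) (hD : IsUnit D.det)
    (h : A ⊗ₖ B = C ⊗ₖ D) : ∃ c : F, c ≠ 0 ∧ A = c • C ∧ B = c⁻¹ • D := by
  have hne : ∀ {ν : Type} [Fintype ν] [DecidableEq ν] [Nonempty ν] {X : Matrix ν ν F},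
      IsUnit X.det → ∃ i j, X i j ≠ 0 := by
    intro ν _ _ _ X hX
    by_contra hall
    push Not at hall
    rw [show X = 0 from Matrix.ext hall, Matrix.det_zero] at hX
    exact not_isUnit_zero hX
  obtain ⟨i, j, hij⟩ := hne hC
  obtain ⟨p, q, hpq⟩ := hne hD
  have he : ∀ i j p q, A i j * B p q = C i j * D p q := fun i j p q =>
    congrFun (congrFun h (i, p)) (j, q)
  have hApq : A i j * B p q ≠ 0 := by rw [he]; exact mul_ne_zero hij hpq
  obtain ⟨hA0, hB0⟩ := mul_ne_zero_iff.1 hApq
  refine ⟨D p q / B p q, div_ne_zero hpq hB0, ?_, ?_⟩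
  · ext a b
    rw [Matrix.smul_apply, smul_eq_mul, div_mul_eq_mul_div, eq_div_iff hB0, he, mul_comm]
  · ext a b
    rw [Matrix.smul_apply, smul_eq_mul, inv_div, div_mul_eq_mul_div, eq_div_iff hpq]
    have h1 := he i j a b
    have h2 := he i j p q
    apply mul_left_cancel₀ hA0
    calc A i j * (B a b * D p q) = (C i j * D p q) * D a b := by rw [← mul_assoc, h1]; ring
      _ = A i j * (B p q * D a b) := by rw [← h2]; ring

/-- A matrix of tensor slots that commute with it is scalar. -/
lemma eq_smul_one_of_commute_slots {m t : ℕ} {M : Matrix (Fin t → Fin m) (Fin t → Fin m) F}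
    (h : ∀ i x, M * slotHom i x = slotHom i x * M) : ∃ c : F, M = c • 1 := by
  obtain ⟨c, hc⟩ := Matrix.mem_range_scalar_of_commute_single (M := M) (fun f g _ => by
    show Commute (Matrix.single f g 1) M
    rw [← pureTensor_single f g]
    have hmem : (fun i => Matrix.single (f i) (g i) (1 : F)) ∈
        (Submonoid.centralizer {M}).comap (pureTensor : _ →* Matrix (Fin t → Fin m) (Fin t → Fin m) F) :=
      Submonoid.pi_mem_of_mulSingle_mem _ fun i => by
        rw [Submonoid.mem_comap, Submonoid.mem_centralizer_iff]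
        rintro _ rfl
        rw [← slotHom_apply]
        exact h i _
    exact (Submonoid.mem_centralizer_iff.1 hmem M rfl).symm)
  exact ⟨c, by rw [← hc, Matrix.smul_one_eq_diagonal]; rfl⟩

lemma slotHom_apply_apply {m t : ℕ} (i : Fin t) (x : Matrix (Fin m) (Fin m) F) (f g : Fin t → Fin m) :
    slotHom i x f g = if ∀ j, j ≠ i → f j = g j then x (f i) (g i) else 0 := by
  rw [slotHom_apply, pureTensor_apply, ← Finset.mul_prod_erase _ _ (Finset.mem_univ i),
    Pi.mulSingle_eq_same]
  have h : ∀ j ∈ Finset.univ.erase i, (Pi.mulSingle i x : Fin t → Matrix (Fin m) (Fin m) F) j (f j) (g j)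
      = if f j = g j then 1 else 0 := fun j hj => by
    rw [Pi.mulSingle_eq_of_ne (Finset.ne_of_mem_erase hj), Matrix.one_apply]
  rw [Finset.prod_congr rfl h, Finset.prod_boole, mul_ite, mul_one, mul_zero]
  simp [Finset.mem_erase]

/-- The Gram matrix of a form with an adjoint-stable tensor power decomposition is a tensor power. -/
theorem FormData.exists_gram_power [Nonempty ι] (D : FormData ι F) {m t : ℕ} (ht : 0 < t)
    (Φ : Fin t → (Matrix (Fin m) (Fin m) F →ₐ[F] Matrix ι ι F)) (e : ι ≃ (Fin t → Fin m)) (P : GL ι F)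
    (hΦ : ∀ i x, Φ i x = conjMat P ((slotHom i x).submatrix e e))
    (hadj : ∀ x, ∃ y, ∀ i, D.adj (Φ i x) = Φ i y) :
    ∃ (G : Matrix (Fin m) (Fin m) F) (c : F), IsUnit G.det ∧ c ≠ 0 ∧
      D.pull e P = c • pureTensor (fun _ => G) := by
  classical
  set T' := D.pull e P with hT'
  haveI : Nonempty (Fin t → Fin m) := e.nonempty_congr.1 inferInstance
  obtain ⟨f, g, hfg⟩ : ∃ f g, T' f g ≠ 0 := by
    by_contra hall
    push Not at hall
    have := D.isUnit_det_pull e P
    rw [← hT', show T' = 0 from Matrix.ext hall, Matrix.det_zero] at this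
    exact not_isUnit_zero this
  set i₀ : Fin t := ⟨0, ht⟩
  let G : Matrix (Fin m) (Fin m) F := fun a b =>
    T' (Function.update f i₀ a) (Function.update g i₀ b)
  have hGne : G ≠ 0 := fun h => hfg (by
    have := congrFun (congrFun h (f i₀)) (g i₀)
    simpa [G] using this)
  have hint : ∀ x, ∃ y, (∀ i, (slotHom i x)ᵀ * T' = T' * slotHom i y) ∧ xᵀ * G = G * y := by
    intro x
    obtain ⟨y, hy⟩ := hadj x
    refine ⟨y.map D.τ, ?_⟩
    have key : ∀ i, (slotHom i x)ᵀ * T' = T' * slotHom i (y.map D.τ) := by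
      intro i
      have h0 := hy i
      rw [hΦ, hΦ] at h0
      rw [hT', D.pull_intertwine e P h0]
      congr 1
      ext u v
      simp only [Matrix.map_apply, slotHom_apply_apply]
      split_ifs <;> simp
    refine ⟨key, ?_⟩
    ext a b
    have h1 := congrFun (congrFun (key i₀) (Function.update f i₀ a)) (Function.update g i₀ b)
    have hl : ((slotHom i₀ x)ᵀ * T') (Function.update f i₀ a) (Function.update g i₀ b) =
        (xᵀ * G) a b := by
      rw [Matrix.mul_apply, Matrix.mul_apply]
      refine (Finset.sum_bij_ne_zero (fun c _ _ => Function.update f i₀ c) ?_ ?_ ?_ ?_).symm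
      · exact fun c _ _ => Finset.mem_univ _
      · intro c _ _ c' _ _ h
        simpa using congrFun h i₀
      · intro u _ hu
        rw [Matrix.transpose_apply, slotHom_apply_apply] at hu
        split_ifs at hu with hcond
        · have hu' : Function.update f i₀ (u i₀) = u := by
            funext j
            by_cases hj : j = i₀
            · subst hj; simp
            · rw [Function.update_of_ne hj, hcond j hj, Function.update_of_ne hj]
          refine ⟨u i₀, Finset.mem_univ _, ?_, hu'⟩
          simp only [Matrix.transpose_apply, G]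
          rw [hu']
          simpa using hu
        · simp at hu
      · intro c _ _
        rw [Matrix.transpose_apply, Matrix.transpose_apply, slotHom_apply_apply, if_pos (fun j hj => by
          simp [Function.update_of_ne hj])]
        simp [G]
    have hr : (T' * slotHom i₀ (y.map D.τ)) (Function.update f i₀ a) (Function.update g i₀ b) =
        (G * y.map D.τ) a b := by
      rw [Matrix.mul_apply, Matrix.mul_apply]
      refine (Finset.sum_bij_ne_zero (fun c _ _ => Function.update g i₀ c) ?_ ?_ ?_ ?_).symm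
      · exact fun c _ _ => Finset.mem_univ _
      · intro c _ _ c' _ _ h
        simpa using congrFun h i₀
      · intro u _ hu
        rw [slotHom_apply_apply] at hu
        split_ifs at hu with hcond
        · have hu' : Function.update g i₀ (u i₀) = u := by
            funext j
            by_cases hj : j = i₀
            · subst hj; simp
            · rw [Function.update_of_ne hj, hcond j hj, Function.update_of_ne hj]
          refine ⟨u i₀, Finset.mem_univ _, ?_, hu'⟩
          simp only [G]
          rw [hu']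
          simpa using hu
        · simp at hu
      · intro c _ _
        rw [slotHom_apply_apply, if_pos (fun j hj => by simp [Function.update_of_ne hj])]
        simp [G]
    rw [← hl, ← hr, h1]
  have hG : IsUnit G.det :=
    isUnit_det_of_intertwine hGne fun x => (hint x).imp fun y hy => hy.2
  set TG : Matrix (Fin t → Fin m) (Fin t → Fin m) F := pureTensor (fun _ => G) with hTG
  set TGi : Matrix (Fin t → Fin m) (Fin t → Fin m) F := pureTensor (fun _ => G⁻¹) with hTGi
  have hinv : TG * TGi = 1 := by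
    rw [hTG, hTGi, ← map_mul,
      show (fun _ : Fin t => G) * (fun _ => G⁻¹) = 1 from funext fun _ => Matrix.mul_nonsing_inv _ hG,
      map_one]
  have hinv' : TGi * TG = 1 := mul_eq_one_comm.1 hinv
  obtain ⟨c, hc⟩ := eq_smul_one_of_commute_slots (M := T' * TGi) fun i x => by
    obtain ⟨y, hy, hGy⟩ := hint xᵀ
    have h1 := hy i
    rw [slotHom_apply, pureTensor_transpose,
      show (fun j => ((Pi.mulSingle i xᵀ : Fin t → Matrix (Fin m) (Fin m) F) j)ᵀ) = Pi.mulSingle i x
        from funext fun j => by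
          by_cases hj : j = i
          · subst hj; simp
          · simp [Pi.mulSingle_eq_of_ne hj],
      ← slotHom_apply] at h1
    rw [Matrix.transpose_transpose] at hGy
    have h2 : slotHom i x * TG = TG * slotHom i y := by
      rw [hTG, slotHom_apply, slotHom_apply, ← map_mul, ← map_mul]
      congr 1
      funext j
      by_cases hj : j = i
      · subst hj; simpa using hGy
      · simp [Pi.mulSingle_eq_of_ne hj]
    calc T' * TGi * slotHom i x = T' * (TGi * (slotHom i x * TG) * TGi) := by
          simp only [mul_assoc, hinv, mul_one]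
      _ = T' * (slotHom i y * TGi) := by rw [h2, ← mul_assoc TGi TG, hinv', one_mul]
      _ = slotHom i x * (T' * TGi) := by rw [← mul_assoc, ← h1, mul_assoc]
  have hT : T' = c • TG := by
    calc T' = T' * TGi * TG := by rw [mul_assoc, hinv', mul_one]
      _ = c • TG := by rw [hc, Matrix.smul_mul, one_mul]
  refine ⟨G, c, hG, ?_, hT⟩
  rintro rfl
  have := D.isUnit_det_pull e P
  rw [← hT', hT, zero_smul, Matrix.det_zero] at this
  exact not_isUnit_zero this

end Cfsg.Agent.Aschbacher
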