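/-
Quadratic forms polarising to an alternating form in characteristic two.
-/
import Mathlib
import Cfsg.Agent.Aschbacher.Formed.Gram

set_option autoImplicit false
set_option linter.style.haveILetI false

namespace Cfsg.Agent.Aschbacher

open Matrix

variable {ι : Type} [Fintype ι] [DecidableEq ι] {F : Type*} [Field F]

lemma odd_card_iff [Fintype F] : Odd (Fintype.card F) ↔ (2 : F) ≠ 0 := by
  rw [Nat.odd_iff]
  constructor
  · intro h h2
    haveI : CharP F 2 := CharTwo.of_one_ne_zero_of_two_eq_zero one_ne_zero h2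
    have := FiniteField.even_card_of_char_two (F := F) (ringChar.eq F 2)
    omega
  · intro h2
    refine FiniteField.odd_card_of_char_ne_two fun hc => h2 ?_
    haveI : CharP F 2 := hc ▸ ringChar.charP F
    exact CharP.cast_eq_zero F 2

lemma exists_sq_eq [Fintype F] (h2 : (2 : F) = 0) (a : F) : ∃ b : F, b ^ 2 = a := by
  haveI : CharP F 2 := CharTwo.of_one_ne_zero_of_two_eq_zero one_ne_zero h2
  obtain ⟨b, hb⟩ := FiniteField.isSquare_of_char_two (ringChar.eq F 2) a
  exact ⟨b, by rw [sq, ← hb]⟩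

/-- A quadratic function with the given polar form, as demanded by the classes. -/
def IsPolarised (D : FormData ι F) (Q : (ι → F) → F) : Prop :=
  Cfsg.Geo.IsNondegenerateQuadraticForm Q ∧ ∀ u v, QuadraticMap.polar Q u v = D.form u v

namespace FormData

variable (D : FormData ι F)

lemma form_add_self (hid : D.τ = RingEquiv.refl F) (u v : ι → F) :
    D.form (u + v) (u + v) = D.form u u + D.form u v + (D.form v u + D.form v v) := by
  rw [form_add_left, form_add_right, form_add_right]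

lemma isBilinearForm (hid : D.τ = RingEquiv.refl F) : Cfsg.Geo.IsBilinearForm D.form where
  add_left := D.form_add_left
  smul_left := D.form_smul_left
  add_right := D.form_add_right
  smul_right c v x := by rw [form_smul_right, hid]; rfl

lemma isPolarised (hid : D.τ = RingEquiv.refl F) {Q : (ι → F) → F}
    (hsmul : ∀ (c : F) v, Q (c • v) = c ^ 2 * Q v)
    (hpolar : ∀ u v, QuadraticMap.polar Q u v = D.form u v) : IsPolarised D Q := by
  have h : QuadraticMap.polar Q = D.form := funext fun u => funext fun v => hpolar u v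
  exact ⟨⟨hsmul, h ▸ D.isBilinearForm hid, h ▸ D.nondegenerate⟩, hpolar⟩

/-- An element `a` with `adj a = 1 - a` moved only by scalars gives an invariant quadratic form. -/
theorem exists_quad_of_half (hid : D.τ = RingEquiv.refl F) (halt : ∀ v, D.form v v = 0)
    (h2 : (2 : F) = 0) {H : Subgroup (GL ι F)}
    (hH : ∀ g ∈ H, ∀ u v, D.form ((g : Matrix ι ι F) *ᵥ u) ((g : Matrix ι ι F) *ᵥ v) = D.form u v)
    (a : Matrix ι ι F) (ha : D.adj a = 1 - a)
    (hga : ∀ g ∈ H, ∃ c : F, conjMat g a = a + c • 1) :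
    ∃ Q, IsPolarised D Q ∧ H ≤ Cfsg.Geo.quadSimilarityGroup Q := by
  refine ⟨fun v => D.form (a *ᵥ v) v, D.isPolarised hid (fun c v => ?_) (fun u v => ?_), fun g hg => ⟨1, fun v => ?_⟩⟩
  · show D.form (a *ᵥ (c • v)) (c • v) = _
    rw [Matrix.mulVec_smul, form_smul_left, form_smul_right, hid]
    simp; ring
  · show D.form (a *ᵥ (u + v)) (u + v) - D.form (a *ᵥ u) u - D.form (a *ᵥ v) v = _
    rw [Matrix.mulVec_add, form_add_left, form_add_right, form_add_right]
    have h1 : D.form (a *ᵥ u) v = D.form u v - D.form u (a *ᵥ v) := by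
      rw [form_mulVec_left, ha, Matrix.sub_mulVec, Matrix.one_mulVec, sub_eq_add_neg v,
        form_add_right, sub_eq_add_neg]
      congr 1
      rw [← neg_one_smul F (a *ᵥ v), form_smul_right, hid]
      simp
    have h3 : D.form (a *ᵥ v) u = D.form u (a *ᵥ v) := by
      have := halt (u + a *ᵥ v)
      rw [D.form_add_self hid, halt, halt, zero_add, add_zero, add_eq_zero_iff_eq_neg] at this
      rw [this]
      have hneg : ∀ x : F, -x = x := fun x => by
        rw [neg_eq_iff_add_eq_zero, ← two_mul, h2, zero_mul]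
      rw [hneg]
    rw [h1, h3]
    ring
  · show D.form (a *ᵥ ((g : Matrix ι ι F) *ᵥ v)) ((g : Matrix ι ι F) *ᵥ v) = ((1 : Fˣ) : F) * D.form (a *ᵥ v) v
    obtain ⟨c, hc⟩ := hga g⁻¹ (inv_mem hg)
    have h1 : a *ᵥ ((g : Matrix ι ι F) *ᵥ v) = (g : Matrix ι ι F) *ᵥ ((a + c • 1) *ᵥ v) := by
      rw [← hc, ← conjMat_mulVec g]
      congr 1
      simp [conjMat_apply, mul_assoc]
    rw [h1, hH g hg, Units.val_one, one_mul, Matrix.add_mulVec, form_add_left, smul_mulVec',
      form_smul_left, halt, mul_zero, add_zero]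

/-- A matrix `U` with `U + Uᵀ` the Gram matrix in some coordinates gives a quadratic form, invariant
under the isometries keeping its values on the coordinate vectors. -/
theorem exists_quad_of_upper (hid : D.τ = RingEquiv.refl F) (h2 : (2 : F) = 0) {κ : Type} [Fintype κ]
    [DecidableEq κ] (e : ι ≃ κ) (P : GL ι F) {U : Matrix κ κ F} (hU : U + Uᵀ = D.pull e P)
    {H : Subgroup (GL ι F)}
    (hH : ∀ g ∈ H, ∀ u v, D.form ((g : Matrix ι ι F) *ᵥ u) ((g : Matrix ι ι F) *ᵥ v) = D.form u v)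
    (hbasis : ∀ g ∈ H, ∀ a : κ,
      ((glCoord e P g : Matrix κ κ F) *ᵥ Pi.single a 1) ⬝ᵥ
        U *ᵥ ((glCoord e P g : Matrix κ κ F) *ᵥ Pi.single a 1) = U a a) :
    ∃ Q, IsPolarised D Q ∧ H ≤ Cfsg.Geo.quadSimilarityGroup Q := by
  let x : (ι → F) → (κ → F) := fun v => (((P⁻¹ : GL ι F) : Matrix ι ι F) *ᵥ v) ∘ e.symm
  let Q : (ι → F) → F := fun v => x v ⬝ᵥ U *ᵥ x v
  have hxadd : ∀ u v, x (u + v) = x u + x v := fun u v => by
    show (_ *ᵥ (u + v)) ∘ e.symm = _
    rw [Matrix.mulVec_add]; rfl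
  have hxsmul : ∀ (c : F) v, x (c • v) = c • x v := fun c v => by
    show (_ *ᵥ (c • v)) ∘ e.symm = _
    rw [Matrix.mulVec_smul]; rfl
  have hform : ∀ u v, D.form u v = x u ⬝ᵥ D.pull e P *ᵥ x v := by
    intro u v
    have hv : ∀ w : ι → F, (P : Matrix ι ι F) *ᵥ (x w ∘ e) = w := fun w => by
      rw [show x w ∘ e = ((P⁻¹ : GL ι F) : Matrix ι ι F) *ᵥ w from funext fun i => by simp [x],
        Matrix.mulVec_mulVec, Units.mul_inv, Matrix.one_mulVec]
    calc D.form u v = D.form ((P : Matrix ι ι F) *ᵥ (x u ∘ e)) ((P : Matrix ι ι F) *ᵥ (x v ∘ e)) := by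
          rw [hv, hv]
      _ = _ := by rw [form_pull, hid]; rfl
  have hsmul : ∀ (c : F) v, Q (c • v) = c ^ 2 * Q v := fun c v => by
    show x (c • v) ⬝ᵥ U *ᵥ x (c • v) = _
    rw [hxsmul, Matrix.mulVec_smul, smul_dotProduct, dotProduct_smul]
    simp [Q]; ring
  have hpolar : ∀ u v, QuadraticMap.polar Q u v = D.form u v := by
    intro u v
    have hsw : x v ⬝ᵥ U *ᵥ x u = x u ⬝ᵥ Uᵀ *ᵥ x v := by
      rw [Matrix.mulVec_transpose, dotProduct_comm (x u), Matrix.dotProduct_mulVec]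
    rw [hform, ← hU, Matrix.add_mulVec, dotProduct_add, ← hsw]
    show x (u + v) ⬝ᵥ U *ᵥ x (u + v) - x u ⬝ᵥ U *ᵥ x u - x v ⬝ᵥ U *ᵥ x v = _
    rw [hxadd, Matrix.mulVec_add, add_dotProduct, dotProduct_add, dotProduct_add]
    ring
  refine ⟨Q, D.isPolarised hid hsmul hpolar, fun g hg => ⟨1, ?_⟩⟩
  have hadd : ∀ u v, Q ((g : Matrix ι ι F) *ᵥ (u + v)) - Q (u + v) =
      (Q ((g : Matrix ι ι F) *ᵥ u) - Q u) + (Q ((g : Matrix ι ι F) *ᵥ v) - Q v) := by
    intro u v
    have h1 := hpolar ((g : Matrix ι ι F) *ᵥ u) ((g : Matrix ι ι F) *ᵥ v)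
    have h3 := hpolar u v
    rw [hH g hg, ← h3] at h1
    simp only [QuadraticMap.polar, ← Matrix.mulVec_add] at h1
    linear_combination h1
  let W : Submodule F (ι → F) :=
    { carrier := {v | Q ((g : Matrix ι ι F) *ᵥ v) - Q v = 0}
      add_mem' := fun {u v} (hu : _ = _) (hv : _ = _) => by
        show Q ((g : Matrix ι ι F) *ᵥ (u + v)) - Q (u + v) = 0
        rw [hadd, hu, hv, add_zero]
      zero_mem' := by
        show Q ((g : Matrix ι ι F) *ᵥ 0) - Q 0 = 0
        rw [Matrix.mulVec_zero, sub_self]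
      smul_mem' := fun c v (hv : _ = _) => by
        show Q ((g : Matrix ι ι F) *ᵥ (c • v)) - Q (c • v) = 0
        rw [Matrix.mulVec_smul, hsmul, hsmul, ← mul_sub, hv, mul_zero] }
  have hW : ∀ a : κ, (P : Matrix ι ι F) *ᵥ (Pi.single a (1 : F) ∘ e) ∈ W := by
    intro a
    show Q _ - Q _ = 0
    have hx1 : x ((P : Matrix ι ι F) *ᵥ (Pi.single a (1 : F) ∘ e)) = Pi.single a 1 := by
      show (_ *ᵥ _) ∘ e.symm = _
      rw [Matrix.mulVec_mulVec, Units.inv_mul, Matrix.one_mulVec]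
      funext b; simp
    have hx2 : x ((g : Matrix ι ι F) *ᵥ ((P : Matrix ι ι F) *ᵥ (Pi.single a (1 : F) ∘ e))) =
        (glCoord e P g : Matrix κ κ F) *ᵥ Pi.single a 1 := by
      show (_ *ᵥ _) ∘ e.symm = _
      rw [glCoord, coe_glReindex, Matrix.submatrix_mulVec_equiv, Units.val_mul, Units.val_mul,
        Matrix.mulVec_mulVec, Matrix.mulVec_mulVec]
      simp [mul_assoc]
    show x _ ⬝ᵥ U *ᵥ x _ - x _ ⬝ᵥ U *ᵥ x _ = 0
    rw [hx1, hx2, hbasis g hg a, sub_eq_zero, Matrix.mulVec_single_one, single_dotProduct, one_mul]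
    rfl
  intro v
  rw [Units.val_one, one_mul, ← sub_eq_zero]
  have hv : v = ∑ a, x v a • ((P : Matrix ι ι F) *ᵥ (Pi.single a (1 : F) ∘ e)) := by
    have h1 : ∑ a, x v a • (Pi.single a (1 : F) ∘ e) = ((P⁻¹ : GL ι F) : Matrix ι ι F) *ᵥ v := by
      funext i
      simp [Finset.sum_apply, Pi.single_apply, x]
    simp only [← Matrix.mulVec_smul, ← Matrix.mulVec_sum, h1, Matrix.mulVec_mulVec, Units.mul_inv,
      Matrix.one_mulVec]
  have : v ∈ W := hv ▸ Submodule.sum_mem W fun a _ => W.smul_mem _ (hW a)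
  exact this

end FormData

end Cfsg.Agent.Aschbacher
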