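/-
Isometries in tensor coordinates.
-/
import Mathlib
import Cfsg.Agent.Aschbacher.Formed.Gram
import Cfsg.Agent.Aschbacher.Formed.Quad

set_option autoImplicit false
set_option linter.style.haveILetI false

namespace Cfsg.Agent.Aschbacher

open Matrix
open scoped Kronecker

variable {ι : Type} [Fintype ι] [DecidableEq ι] {F : Type*} [Field F]
variable {κ : Type} [Fintype κ] [DecidableEq κ]

lemma glCoord_mulVec (e : ι ≃ κ) (P g : GL ι F) (x : κ → F) :
    (P : Matrix ι ι F) *ᵥ (((glCoord e P g : Matrix κ κ F) *ᵥ x) ∘ e) =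
      (g : Matrix ι ι F) *ᵥ ((P : Matrix ι ι F) *ᵥ (x ∘ e)) := by
  rw [glCoord, coe_glReindex, Matrix.submatrix_mulVec_equiv, Units.val_mul, Units.val_mul]
  simp only [Equiv.symm_symm]
  rw [Function.comp_assoc, Equiv.symm_comp_self, Function.comp_id, Matrix.mulVec_mulVec,
    Matrix.mulVec_mulVec, ← mul_assoc, ← mul_assoc, Units.mul_inv, one_mul]

lemma glCoord_of_reindex (e : ι ≃ κ) (P : GL ι F) (g₀ : GL κ F) :
    glCoord e P ((MulAut.conj P) (Cfsg.Geo.glReindex e.symm g₀)) = g₀ := by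
  have h : P⁻¹ * ((MulAut.conj P) (Cfsg.Geo.glReindex e.symm g₀)) * P = Cfsg.Geo.glReindex e.symm g₀ := by
    rw [MulAut.conj_apply]; group
  apply Units.ext
  rw [glCoord, h, coe_glReindex, coe_glReindex]
  ext i j
  simp

lemma exists_kronecker_of_mem {n₁ n₂ : ℕ} {e : ι ≃ Fin n₁ × Fin n₂} {P g : GL ι F}
    (h : g ∈ Cfsg.Geo.tensorProductSubgroup n₁ n₂ e P) :
    ∃ (a : GL (Fin n₁) F) (b : GL (Fin n₂) F),
      (glCoord e P g : Matrix (Fin n₁ × Fin n₂) (Fin n₁ × Fin n₂) F) =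
        (a : Matrix (Fin n₁) (Fin n₁) F) ⊗ₖ (b : Matrix (Fin n₂) (Fin n₂) F) := by
  obtain ⟨g1, hg1, rfl⟩ := Subgroup.mem_map.1 h
  obtain ⟨g2, ⟨a, b, hab⟩, rfl⟩ := Subgroup.mem_map.1 hg1
  refine ⟨a, b, ?_⟩
  rw [← hab]
  exact congrArg Units.val (glCoord_of_reindex e P g2)

namespace FormData

variable (D : FormData ι F)

lemma pull_isometry (e : ι ≃ κ) (P g : GL ι F)
    (hg : ∀ u v, D.form ((g : Matrix ι ι F) *ᵥ u) ((g : Matrix ι ι F) *ᵥ v) = D.form u v) :
    (glCoord e P g : Matrix κ κ F)ᵀ * D.pull e P * (glCoord e P g : Matrix κ κ F).map D.τ =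
      D.pull e P := by
  apply sesqForm_inj D.τ.toRingHom
  intro x y
  rw [show (glCoord e P g : Matrix κ κ F).map D.τ = (glCoord e P g : Matrix κ κ F).map D.τ.toRingHom
    from rfl, ← sesqForm_mulVec]
  show _ ⬝ᵥ D.pull e P *ᵥ (D.τ ∘ _) = x ⬝ᵥ D.pull e P *ᵥ (D.τ ∘ y)
  rw [← form_pull, ← form_pull, glCoord_mulVec, glCoord_mulVec, hg]

/-- Matrices intertwined by the Gram matrix in coordinates are adjoint. -/
lemma adj_of_intertwine (e : ι ≃ κ) (P : GL ι F) {M M' : Matrix κ κ F}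
    (h : Mᵀ * D.pull e P = D.pull e P * M'.map D.τ) :
    D.adj (conjMat P (M.submatrix e e)) = conjMat P (M'.submatrix e e) := by
  refine (D.eq_adj fun u v => ?_).symm
  have hcoord : ∀ w : ι → F, (P : Matrix ι ι F) *ᵥ
      (((((P⁻¹ : GL ι F) : Matrix ι ι F) *ᵥ w) ∘ e.symm) ∘ e) = w := fun w => by
    rw [Function.comp_assoc, Equiv.symm_comp_self, Function.comp_id, Matrix.mulVec_mulVec, Units.mul_inv,
      Matrix.one_mulVec]
  set x := (((P⁻¹ : GL ι F) : Matrix ι ι F) *ᵥ u) ∘ e.symm with hx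
  set y := (((P⁻¹ : GL ι F) : Matrix ι ι F) *ᵥ v) ∘ e.symm with hy
  have hmul : ∀ (N : Matrix κ κ F) (z : κ → F), conjMat P (N.submatrix e e) *ᵥ
      ((P : Matrix ι ι F) *ᵥ (z ∘ e)) = (P : Matrix ι ι F) *ᵥ ((N *ᵥ z) ∘ e) := fun N z => by
    rw [conjMat_mulVec, Matrix.submatrix_mulVec_equiv, Function.comp_assoc, Equiv.self_comp_symm,
      Function.comp_id]
  rw [← hcoord u, ← hcoord v, hmul, hmul, form_pull, form_pull]
  rw [show (D.τ ∘ (M' *ᵥ y) : κ → F) = M'.map D.τ *ᵥ (D.τ ∘ y) from map_mulVec_comp D.τ.toRingHom M' y,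
    Matrix.mulVec_mulVec, ← h, ← Matrix.mulVec_mulVec, Matrix.dotProduct_mulVec x Mᵀ,
    Matrix.vecMul_transpose]

end FormData

/-- The monomial tensor `(x, y) ↦ ∏ i, gs i (x i) (y (σ i))`. -/
def monTensor {k t : ℕ} (σ : Equiv.Perm (Fin t)) (gs : Fin t → Matrix (Fin k) (Fin k) F) :
    Matrix (Fin t → Fin k) (Fin t → Fin k) F :=
  Matrix.of fun x y => ∏ i, gs i (x i) (y (σ i))

lemma monTensor_one_left {k t : ℕ} (gs : Fin t → Matrix (Fin k) (Fin k) F) :
    monTensor 1 gs = pureTensor gs := rfl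

lemma monTensor_mul {k t : ℕ} (σ τ : Equiv.Perm (Fin t)) (gs hs : Fin t → Matrix (Fin k) (Fin k) F) :
    monTensor σ gs * monTensor τ hs = monTensor (σ.trans τ) (fun i => gs i * hs (σ i)) := by
  ext x z
  simp only [monTensor, Matrix.mul_apply, Matrix.of_apply, Equiv.trans_apply]
  rw [Fintype.prod_sum, ← (Equiv.arrowCongr σ (Equiv.refl (Fin k))).sum_comp]
  refine Finset.sum_congr rfl fun y _ => ?_
  rw [← Equiv.prod_comp σ (fun i => hs i _ _), ← Finset.prod_mul_distrib]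
  simp

lemma monTensor_one {k t : ℕ} : monTensor (1 : Equiv.Perm (Fin t)) (1 : Fin t → Matrix (Fin k) (Fin k) F) = 1 := by
  rw [monTensor_one_left, map_one]

lemma monTensor_transpose {k t : ℕ} (σ : Equiv.Perm (Fin t)) (gs : Fin t → Matrix (Fin k) (Fin k) F) :
    (monTensor σ gs)ᵀ = monTensor σ⁻¹ (fun j => (gs (σ⁻¹ j))ᵀ) := by
  ext x y
  simp only [monTensor, Matrix.transpose_apply, Matrix.of_apply]
  rw [← Equiv.prod_comp σ⁻¹]
  simp

/-- Congruence of a pure tensor by a monomial one. -/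
lemma monTensor_congr {k t : ℕ} (σ : Equiv.Perm (Fin t)) (gs X : Fin t → Matrix (Fin k) (Fin k) F) :
    (monTensor σ gs)ᵀ * pureTensor X * monTensor σ gs =
      pureTensor (fun j => (gs (σ⁻¹ j))ᵀ * X (σ⁻¹ j) * gs (σ⁻¹ j)) := by
  rw [monTensor_transpose, ← monTensor_one_left X, monTensor_mul, monTensor_mul, ← monTensor_one_left]
  congr 1
  ext i
  simp

lemma exists_monTensor_of_mem {k t : ℕ} {g : GL (Fin t → Fin k) F}
    (hg : g ∈ Cfsg.Geo.tensorWreathStandard k t F) :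
    ∃ (σ : Equiv.Perm (Fin t)) (gs : Fin t → GL (Fin k) F),
      (g : Matrix (Fin t → Fin k) (Fin t → Fin k) F) =
        monTensor σ (fun i => (gs i : Matrix (Fin k) (Fin k) F)) := by
  classical
  unfold Cfsg.Geo.tensorWreathStandard at hg
  induction hg using Subgroup.closure_induction with
  | mem x hx =>
    rcases hx with ⟨gs, hgs⟩ | ⟨σ, hσ⟩
    · exact ⟨1, gs, Matrix.ext hgs⟩
    · refine ⟨σ⁻¹, fun _ => 1, Matrix.ext fun a b => ?_⟩
      rw [hσ]
      simp only [monTensor, Matrix.of_apply, Units.val_one, Matrix.one_apply, Finset.prod_boole,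
        Finset.mem_univ, true_implies]
      by_cases h : b = a ∘ σ
      · rw [if_pos h, if_pos fun i => by simp [h]]
      · rw [if_neg h, if_neg]
        intro hall
        apply h
        funext j
        simpa using (hall (σ j)).symm
  | one =>
    exact ⟨1, fun _ => 1, by rw [Units.val_one, ← monTensor_one]; rfl⟩
  | mul x y _ _ hx hy =>
    obtain ⟨σ, gs, hgs⟩ := hx
    obtain ⟨τ, hs, hhs⟩ := hy
    exact ⟨σ.trans τ, fun i => gs i * hs (σ i), by rw [Units.val_mul, hgs, hhs, monTensor_mul]; rfl⟩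
  | inv x _ hx =>
    obtain ⟨σ, gs, hgs⟩ := hx
    refine ⟨σ⁻¹, fun j => (gs (σ⁻¹ j))⁻¹, ?_⟩
    have hmul : (x : Matrix (Fin t → Fin k) (Fin t → Fin k) F) *
        monTensor σ⁻¹ (fun j => (((gs (σ⁻¹ j))⁻¹ : GL (Fin k) F) : Matrix (Fin k) (Fin k) F)) = 1 := by
      rw [hgs, monTensor_mul, ← monTensor_one]
      congr 1
      · ext i; simp
      · funext i; simp
    calc ((x⁻¹ : GL (Fin t → Fin k) F) : Matrix (Fin t → Fin k) (Fin t → Fin k) F)
        = ((x⁻¹ : GL (Fin t → Fin k) F) : Matrix (Fin t → Fin k) (Fin t → Fin k) F) *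
          ((x : Matrix (Fin t → Fin k) (Fin t → Fin k) F) *
            monTensor σ⁻¹ (fun j => (((gs (σ⁻¹ j))⁻¹ : GL (Fin k) F) : Matrix (Fin k) (Fin k) F))) := by
          rw [hmul, mul_one]
      _ = _ := by rw [← mul_assoc, Units.inv_mul, one_mul]

lemma exists_monTensor_of_mem_wreath {k t : ℕ} {e : ι ≃ (Fin t → Fin k)} {P g : GL ι F}
    (h : g ∈ Cfsg.Geo.tensorWreathSubgroup k t e P) :
    ∃ (σ : Equiv.Perm (Fin t)) (gs : Fin t → GL (Fin k) F),
      (glCoord e P g : Matrix (Fin t → Fin k) (Fin t → Fin k) F) =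
        monTensor σ (fun i => (gs i : Matrix (Fin k) (Fin k) F)) := by
  obtain ⟨g1, hg1, rfl⟩ := Subgroup.mem_map.1 h
  obtain ⟨g2, hg2, rfl⟩ := Subgroup.mem_map.1 hg1
  obtain ⟨σ, gs, hgs⟩ := exists_monTensor_of_mem hg2
  refine ⟨σ, gs, ?_⟩
  rw [← hgs]
  exact congrArg Units.val (glCoord_of_reindex e P g2)

/-- Two equal pure tensors of non-zero matrices have proportional factors. -/
lemma exists_smul_of_pureTensor {k t : ℕ} {X Y : Fin t → Matrix (Fin k) (Fin k) F} {c : F} (hc : c ≠ 0)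
    (hY : ∀ i, Y i ≠ 0) (h : pureTensor X = c • pureTensor Y) : ∀ i, ∃ d : F, X i = d • Y i := by
  have hne : ∀ i, ∃ a b, Y i a b ≠ 0 := fun i => by
    by_contra hall
    push Not at hall
    exact hY i (Matrix.ext hall)
  choose a b hab using hne
  have he : ∀ f g : Fin t → Fin k, ∏ j, X j (f j) (g j) = c * ∏ j, Y j (f j) (g j) := fun f g => by
    have := congrFun (congrFun h f) g
    simpa [pureTensor_apply] using this
  have hX0 : ∏ j, X j (a j) (b j) ≠ 0 := by
    rw [he]; exact mul_ne_zero hc (Finset.prod_ne_zero_iff.2 fun j _ => hab j)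
  intro i
  set rX := ∏ j ∈ Finset.univ.erase i, X j (a j) (b j) with hrX
  set rY := ∏ j ∈ Finset.univ.erase i, Y j (a j) (b j) with hrY
  have hrX0 : rX ≠ 0 := Finset.prod_ne_zero_iff.2 fun j _ => Finset.prod_ne_zero_iff.1 hX0 j (Finset.mem_univ j)
  refine ⟨c * rY / rX, Matrix.ext fun u v => ?_⟩
  have h1 := he (Function.update a i u) (Function.update b i v)
  rw [← Finset.mul_prod_erase _ _ (Finset.mem_univ i), ← Finset.mul_prod_erase _ _ (Finset.mem_univ i),
    Function.update_self, Function.update_self] at h1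
  have hu : ∀ Z : Fin t → Matrix (Fin k) (Fin k) F, ∏ j ∈ Finset.univ.erase i,
      Z j (Function.update a i u j) (Function.update b i v j) = ∏ j ∈ Finset.univ.erase i, Z j (a j) (b j) :=
    fun Z => Finset.prod_congr rfl fun j hj => by
      rw [Function.update_of_ne (Finset.ne_of_mem_erase hj), Function.update_of_ne (Finset.ne_of_mem_erase hj)]
  rw [hu X, hu Y, ← hrX, ← hrY] at h1
  rw [Matrix.smul_apply, smul_eq_mul, div_mul_eq_mul_div, eq_div_iff hrX0, h1]
  ring

lemma pureTensor_ne_zero {k t : ℕ} {Y : Fin t → Matrix (Fin k) (Fin k) F} (hY : ∀ i, Y i ≠ 0) :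
    pureTensor Y ≠ 0 := by
  have hne : ∀ i, ∃ a b, Y i a b ≠ 0 := fun i => by
    by_contra hall
    push Not at hall
    exact hY i (Matrix.ext hall)
  choose a b hab using hne
  intro h
  have := congrFun (congrFun h a) b
  rw [pureTensor_apply, Matrix.zero_apply] at this
  exact Finset.prod_ne_zero_iff.2 (fun j _ => hab j) this

/-- A symmetric form in characteristic two with a non-zero diagonal singles out a hyperplane kept by
all its similarities. -/
lemma exists_projection [Fintype F] (h2 : (2 : F) = 0) {k : ℕ} (hk : 2 ≤ k)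
    {G : Matrix (Fin k) (Fin k) F} (hG : Gᵀ = G) {i : Fin k} (hi : G i i ≠ 0) :
    ∃ E K : Matrix (Fin k) (Fin k) F, E ≠ 0 ∧ K ≠ 0 ∧ E * K = 0 ∧
      ∀ (a : Matrix (Fin k) (Fin k) F) (c : F), aᵀ * G * a = c • G → E * a * E = a * E := by
  classical
  choose r hr using fun j => exists_sq_eq h2 (G j j)
  haveI : CharP F 2 := CharTwo.of_one_ne_zero_of_two_eq_zero one_ne_zero h2
  have hquad : ∀ u : Fin k → F, u ⬝ᵥ G *ᵥ u = (r ⬝ᵥ u) ^ 2 := by
    intro u
    have hR : (u ⬝ᵥ G *ᵥ u) = ∑ p : Fin k × Fin k, u p.1 * G p.1 p.2 * u p.2 := by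
      rw [Fintype.sum_prod_type]
      simp [dotProduct, Matrix.mulVec, Finset.mul_sum, mul_assoc]
    rw [hR, show r ⬝ᵥ u = ∑ j, r j * u j from rfl, CharTwo.sum_sq]
    rw [← Finset.sum_filter_add_sum_filter_not Finset.univ (fun p : Fin k × Fin k => p.1 = p.2)]
    have hoff : ∑ p ∈ Finset.univ.filter (fun p : Fin k × Fin k => ¬ p.1 = p.2),
        u p.1 * G p.1 p.2 * u p.2 = 0 := by
      refine Finset.sum_involution (fun p _ => (p.2, p.1)) (fun p _ => ?_) (fun p hp _ => ?_)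
        (fun p hp => ?_) (fun p _ => rfl)
      · rw [show G p.2 p.1 = G p.1 p.2 from congrFun (congrFun hG p.1) p.2,
          show u p.2 * G p.1 p.2 * u p.1 = u p.1 * G p.1 p.2 * u p.2 by ring, CharTwo.add_self_eq_zero]
      · simp only [Finset.mem_filter, Finset.mem_univ, true_and] at hp
        exact fun h => hp (congrArg Prod.snd h)
      · simp only [Finset.mem_filter, Finset.mem_univ, true_and] at hp ⊢
        exact fun h => hp h.symm
    rw [hoff, add_zero]
    refine Finset.sum_nbij' (fun p => p.1) (fun j => (j, j)) ?_ ?_ ?_ ?_ ?_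
    · simp
    · simp
    · intro p hp; simp at hp; ext <;> simp [hp]
    · simp
    · intro p hp
      simp at hp
      rw [← hp, mul_pow, hr]; ring
  have hri : r i ≠ 0 := fun h => hi (by rw [← hr, h, zero_pow two_ne_zero])
  set v : Fin k → F := Pi.single i (r i)⁻¹ with hv
  have hrv : r ⬝ᵥ v = 1 := by rw [hv, dotProduct_single, mul_inv_cancel₀ hri]
  set K := Matrix.vecMulVec v r with hK
  have hKK : K * K = K := by
    rw [hK, Matrix.vecMulVec_mul_vecMulVec, hrv]
    simp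
  have hK0 : K ≠ 0 := by
    intro h
    have := congrFun (congrFun h i) i
    rw [hK, Matrix.vecMulVec_apply, hv, Pi.single_eq_same, inv_mul_cancel₀ hri, Matrix.zero_apply] at this
    exact one_ne_zero this
  refine ⟨1 - K, K, ?_, hK0, by rw [sub_mul, one_mul, hKK, sub_self], fun a c ha => ?_⟩
  · intro h
    haveI : Nontrivial (Fin k) := Fin.nontrivial_iff_two_le.2 hk
    obtain ⟨j, hj⟩ := exists_ne i
    have := congrFun (congrFun (sub_eq_zero.1 h) j) j
    rw [hK, Matrix.vecMulVec_apply, hv, Pi.single_eq_of_ne hj, zero_mul, Matrix.one_apply_eq] at this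
    exact one_ne_zero this
  · apply Matrix.ext_iff_mulVec.2
    intro u
    rw [mul_assoc, ← Matrix.mulVec_mulVec]
    set z := (a * (1 - K)) *ᵥ u with hz
    have h0 : r ⬝ᵥ ((1 - K) *ᵥ u) = 0 := by
      rw [Matrix.sub_mulVec, Matrix.one_mulVec, dotProduct_sub, hK, Matrix.vecMulVec_mulVec]
      simp [dotProduct_smul, hrv, smul_eq_mul, mul_comm]
    have h1 : r ⬝ᵥ z = 0 := by
      apply eq_zero_of_pow_eq_zero (n := 2)
      rw [← hquad, hz, ← Matrix.mulVec_mulVec]
      set w := (1 - K) *ᵥ u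
      calc (a *ᵥ w) ⬝ᵥ G *ᵥ (a *ᵥ w) = w ⬝ᵥ (aᵀ * G * a) *ᵥ w := by
            rw [← Matrix.mulVec_mulVec, ← Matrix.mulVec_mulVec, Matrix.dotProduct_mulVec w aᵀ,
              Matrix.vecMul_transpose]
        _ = 0 := by rw [ha, Matrix.smul_mulVec, dotProduct_smul, hquad, h0]; simp
    rw [Matrix.sub_mulVec, Matrix.one_mulVec, hK, Matrix.vecMulVec_mulVec, h1]
    simp

/-- An invariant singular non-zero matrix contradicts irreducibility. -/
lemma not_irred_of_invariant {H : Subgroup (GL ι F)} (e : ι ≃ κ) (P : GL ι F) {N N' : Matrix κ κ F}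
    (hN : N ≠ 0) (hN' : N' ≠ 0) (hNN : N * N' = 0)
    (hinv : ∀ g ∈ H, N * (glCoord e P g : Matrix κ κ F) * N = (glCoord e P g : Matrix κ κ F) * N) :
    ¬ Irred H := by
  intro hirr
  let L : (κ → F) →ₗ[F] (ι → F) := (Matrix.toLin' (P : Matrix ι ι F)).comp (LinearMap.funLeft F F e)
  have hL : ∀ x, L x = (P : Matrix ι ι F) *ᵥ (x ∘ e) := fun x => by
    simp [L, Matrix.toLin'_apply]
    rfl
  have hLinj : Function.Injective L := fun x y h => by
    rw [hL, hL] at h
    have h1 := Matrix.mulVec_injective_iff_isUnit.2 P.isUnit h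
    exact funext fun k => by simpa using congrFun h1 (e.symm k)
  let W : Submodule F (ι → F) := (LinearMap.range (Matrix.toLin' N)).map L
  have hW : ∀ g ∈ H, ∀ v ∈ W, (g : Matrix ι ι F) *ᵥ v ∈ W := by
    rintro g hg _ ⟨_, ⟨u, rfl⟩, rfl⟩
    refine ⟨_, ⟨(glCoord e P g : Matrix κ κ F) *ᵥ (N *ᵥ u), rfl⟩, ?_⟩
    rw [hL, hL, Matrix.toLin'_apply, Matrix.toLin'_apply, ← glCoord_mulVec]
    simp only [Matrix.mulVec_mulVec, ← mul_assoc, hinv g hg]
  rcases irred_iff.1 hirr W hW with h | h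
  · apply hN
    apply Matrix.ext_iff_mulVec.2
    intro u
    have h1 : L (N *ᵥ u) ∈ W := ⟨_, ⟨u, Matrix.toLin'_apply _ _⟩, rfl⟩
    rw [h, Submodule.mem_bot] at h1
    rw [hLinj (h1.trans (map_zero L).symm), Matrix.zero_mulVec]
  · have hsurj : Function.Surjective (fun u => N *ᵥ u) := fun y => by
      have h1 : L y ∈ W := h ▸ Submodule.mem_top
      obtain ⟨_, ⟨u, rfl⟩, hu⟩ := h1
      exact ⟨u, by rw [← hLinj hu, Matrix.toLin'_apply]⟩
    have hu := Matrix.mulVec_surjective_iff_isUnit.1 hsurj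
    obtain ⟨w, rfl⟩ := hu
    apply hN'
    rw [← one_mul N', ← Units.inv_mul w, mul_assoc, hNN, mul_zero]

end Cfsg.Agent.Aschbacher
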